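import Cfsg.Agent.H153.Dl.PR

/-!
# Classes separated by an invariant (helper153)

* `card_le_of_sig` : elements with different values of a class invariant lie in different classes;
* `PR.chkP`, `PR.chkPs` : the numbers of fixed points of two powers of a word.
-/

set_option autoImplicit false
set_option maxRecDepth 100000

namespace Cfsg.Agent.H153.Dl

open Cfsg

/-- Classes separated by a class invariant. -/
theorem card_le_of_sig {H α : Type*} [Group H] [Finite H] (sig : H → α)
    (hs : ∀ g h : H, IsConj g h → sig g = sig h) (l : List H) (hnd : (l.map sig).Nodup) :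
    l.length ≤ Nat.card (ConjClasses H) := by
  have h := H593.IMRank.card_le_conjClasses (G := H) (fun i : Fin l.length => l.get i)
    (fun i j hij => by
      have h1 := hs _ _ hij
      have h2 := List.nodup_iff_injective_get.1 hnd
      have hi : i.val < (l.map sig).length := by rw [List.length_map]; exact i.2
      have hj : j.val < (l.map sig).length := by rw [List.length_map]; exact j.2
      have h3 : (l.map sig).get ⟨i.val, hi⟩ = (l.map sig).get ⟨j.val, hj⟩ := by
        simp only [List.get_eq_getElem, List.getElem_map]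
        exact h1
      have h4 := h2 h3
      exact Fin.ext (Fin.mk.inj h4))
  rwa [Fintype.card_fin] at h

namespace PR

variable {G : Type} [Group G] {R : PR G} {k : ℕ}

/-- the kernel check: the numbers of fixed points of two powers of a word -/
noncomputable def chkP (R : PR G) (k e f : ℕ) (q : List R.Lt × ℕ × ℕ) : Bool :=
  Bool.and (Nat.beq (Lib.PermNetOrbit.pc k (fxm R k (rep e q.1))) q.2.1)
    (Nat.beq (Lib.PermNetOrbit.pc k (fxm R k (rep f q.1))) q.2.2)

theorem chkP_spec (C : R.Cnt k) {e f : ℕ} {q : List R.Lt × ℕ × ℕ} (h : chkP R k e f q = true) :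
    (R.Fx (R.word q.1 ^ e), R.Fx (R.word q.1 ^ f)) = q.2 := by
  unfold chkP at h
  have h' := Bool.and_eq_true_iff.1 h
  rw [← R.word_rep, ← R.word_rep, Fx_word C, Fx_word C]
  exact Prod.ext (Nat.eq_of_beq_eq_true h'.1) (Nat.eq_of_beq_eq_true h'.2)

/-- the kernel check of a list of entries -/
noncomputable def chkPs (R : PR G) (k e f : ℕ) (l : List (List R.Lt × ℕ × ℕ)) : Bool :=
  List.rec (motive := fun _ => Bool) true (fun q _ ih => Bool.and (chkP R k e f q) ih) l

theorem chkPs_spec (C : R.Cnt k) {e f : ℕ} {l : List (List R.Lt × ℕ × ℕ)} (h : chkPs R k e f l = true) :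
    (l.map fun q => (R.Fx (R.word q.1 ^ e), R.Fx (R.word q.1 ^ f))) = l.map fun q => q.2 := by
  induction l with
  | nil => rfl
  | cons a l ih =>
    have h' : (chkP R k e f a && chkPs R k e f l) = true := h
    rw [Bool.and_eq_true] at h'
    rw [List.map_cons, List.map_cons, chkP_spec C h'.1, ih h'.2]

theorem chk_map (C : R.Cnt k) {l : List (List R.Lt × ℕ × ℕ)} (h : ∀ q ∈ l, chk R k q = true) :
    (l.map fun q => (R.Fx (R.word q.1), R.Fx (R.word q.1 * R.word q.1))) = l.map fun q => q.2 := by
  induction l with
  | nil => rfl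
  | cons a l ih =>
    obtain ⟨h1, h2⟩ := chk_spec C (h a (List.mem_cons_self ..))
    rw [List.map_cons, List.map_cons, ih fun q hq => h q (List.mem_cons_of_mem _ hq), h1, h2]

theorem Fx_pow_isConj (C : R.Cnt k) {g g' : G} (h : IsConj g g') (e : ℕ) : R.Fx (g ^ e) = R.Fx (g' ^ e) := by
  obtain ⟨c, rfl⟩ := isConj_iff.1 h
  rw [conj_pow, Fx_conj C]

/-- **Classes separated by the numbers of fixed points of two powers.** -/
theorem card_le_conjClasses_pow [Finite G] (C : R.Cnt k) {e f : ℕ} (tab : List (List R.Lt × ℕ × ℕ))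
    (h : chkPs R k e f tab = true) (hnd : (tab.map fun q => q.2).Nodup) :
    tab.length ≤ Nat.card (ConjClasses G) := by
  have h1 := card_le_of_sig (fun g : G => (R.Fx (g ^ e), R.Fx (g ^ f)))
    (fun g g' hg => by rw [Fx_pow_isConj C hg, Fx_pow_isConj C hg]) (tab.map fun q => R.word q.1)
    (by rw [List.map_map]; exact (chkPs_spec C h).symm ▸ hnd)
  rwa [List.length_map] at h1

end PR

end Cfsg.Agent.H153.Dl
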