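import Cfsg.Agent.H454.Dl.Crit
import Cfsg.Agent.CharDeep.CliffordCorr
import Cfsg.Agent.OddOrderCharacters.IndRes
import Cfsg.Agent.H424.DegTools

/-!
# `Many` for a normal subgroup by counting in the group (helper153)

* `card_over_le` : at most `|G : N|` irreducible characters lie over an irreducible character of `N`;
* `many_down` : counting the irreducible characters of `G` of degree divisible by `p`, `p ∤ |G : N|`.
-/

set_option autoImplicit false

namespace Cfsg.Agent.H153.Dl

open Cfsg Cfsg.Agent.H246.Dl Cfsg.Agent.H454.DlCrit Cfsg.Agent.Characters.Core Cfsg.Agent.CharDeep.CliffordCorr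

universe u

/-- At most `|G : N|` irreducible characters lie over an irreducible character of `N`. -/
theorem card_over_le {G : Type u} [Group G] [Fintype G] (N : Subgroup G) [N.Normal] [Fintype N] (θ : IrrCharacter N)
    (A : Finset (IrrCharacter G)) (hA : ∀ χ ∈ A, classInner (fun n : N => (χ : G → ℂ) n) (θ : N → ℂ) ≠ 0) :
    A.card ≤ N.index := by
  classical
  have := finite_irr (G := G)
  have := Fintype.ofFinite (IrrCharacter G)
  obtain ⟨c, hc, hc'⟩ := exists_nat_coeffs_indFun N (isIrr_isCharacter θ.2)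
  obtain ⟨d, hd0, hd⟩ := isIrr_apply_one θ.2
  choose dd hdd0 hdd using fun χ : IrrCharacter G => isIrr_apply_one χ.2
  have h1 : N.index * d = ∑ χ : IrrCharacter G, c χ * dd χ := by
    have h2 := congrFun hc 1
    rw [Cfsg.Agent.OddOrderCharacters.IndRes.indFun_apply_one, hd] at h2
    simp only [Finset.sum_apply, Pi.smul_apply, smul_eq_mul, hdd] at h2
    exact_mod_cast h2
  have h3 : ∀ χ ∈ A, d ≤ c χ * dd χ := by
    intro χ hχ
    have h4 := (S0887.result N (χ : G → ℂ) χ.2 (θ : N → ℂ) θ.2 (hA χ hχ) (dd χ) d (hdd χ) hd).1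
    have h5 : d ≤ dd χ := Nat.le_of_dvd ((hdd0 χ)) h4
    have h6 : c χ ≠ 0 := by
      intro h0
      have h7 := hc' χ
      rw [h0, Nat.cast_zero] at h7
      apply hA χ hχ
      rw [← classInner_conj_symm, h7, map_zero]
    calc d ≤ dd χ := h5
      _ = 1 * dd χ := (one_mul _).symm
      _ ≤ c χ * dd χ := Nat.mul_le_mul_right _ (Nat.pos_of_ne_zero h6)
  have h8 : A.card * d ≤ N.index * d := by
    rw [h1, ← smul_eq_mul, ← Finset.sum_const]
    exact (Finset.sum_le_sum h3).trans (Finset.sum_le_sum_of_subset (Finset.subset_univ _))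
  exact Nat.le_of_mul_le_mul_right h8 hd0

open H670.PSing in
/-- **`Many` for a normal subgroup of index prime to `p`.** -/
theorem many_down {G : Type u} [Group G] [Finite G] (N : Subgroup G) [N.Normal] {p : ℕ} (hp : p.Prime)
    (hN : ¬ p ∣ N.index) {x : G} (hx : ∃ j : ℕ, orderOf x = p ^ j) {m o b c : ℕ} (ho : Nat.card (OutQ N) ≤ o)
    (hb : Nat.card (Subgroup.centralizer ({x} : Set G)) ≤ b) (hc : c ≤ Nat.card (ConjClasses G))
    (h : (m - 1) * o * N.index + b < c) : Many p N m := by
  classical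
  have hf : Fact p.Prime := ⟨hp⟩
  have := Fintype.ofFinite G
  have := Fintype.ofFinite N
  have := finite_irr (G := G)
  have := Fintype.ofFinite (IrrCharacter G)
  have := finite_irr (G := N)
  have := Fintype.ofFinite (IrrCharacter N)
  set B : Finset (IrrCharacter G) := Finset.univ.filter fun χ : IrrCharacter G => p ∣ charDegree (χ : G → ℂ) with hB
  have hBc : Nat.card (ConjClasses G) ≤ B.card + b :=
    card_irr_filter (fun χ : IrrCharacter G => p ∣ charDegree (χ : G → ℂ))
      (((card_prime_le hx).trans (card_nonzero_le x)).trans hb)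
  have hex : ∀ χ : IrrCharacter G, ∃ θ : IrrCharacter N,
      classInner (fun n : N => (χ : G → ℂ) n) (θ : N → ℂ) ≠ 0 := by
    intro χ
    by_contra hcon
    push Not at hcon
    have hχN : IsCharacter N (fun n : N => (χ : G → ℂ) n) := isCharacter_comp N.subtype (isIrr_isCharacter χ.2)
    have h0 := classFunction_eq_zero (isCharacter_isClassFunction hχN) fun θ hθ => hcon ⟨θ, hθ⟩
    have h2 := congrFun h0 1
    simp only [Pi.zero_apply, OneMemClass.coe_one] at h2
    exact isIrr_apply_one_ne_zero χ.2 h2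
  choose θ hθ using hex
  have hdeg : ∀ χ ∈ B, p ∣ charDegree (θ χ : N → ℂ) := by
    intro χ hχ
    obtain ⟨d, hd0, hd⟩ := isIrr_apply_one (θ χ).2
    obtain ⟨D, hD0, hD⟩ := isIrr_apply_one χ.2
    obtain ⟨⟨k, hk⟩, h2⟩ := S0887.result N (χ : G → ℂ) χ.2 (θ χ : N → ℂ) (θ χ).2 (hθ χ) D d hD hd
    have h3 : charDegree (χ : G → ℂ) = D := charDegree_eq_of hD
    have h4 : charDegree (θ χ : N → ℂ) = d := charDegree_eq_of hd
    rw [h4]
    rw [hk, Nat.mul_div_cancel_left _ hd0] at h2
    have h5 : p ∣ d * k := by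
      rw [← hk, ← h3]
      exact (Finset.mem_filter.1 hχ).2
    exact (hp.dvd_mul.1 h5).resolve_right fun h => hN (h.trans h2)
  have hcard : B.card ≤ N.index * (B.image θ).card := by
    refine Finset.card_le_mul_card_image B _ ?_
    intro t ht
    refine card_over_le N t _ ?_
    intro χ hχ
    obtain ⟨-, h2⟩ := Finset.mem_filter.1 hχ
    rw [← h2]
    exact hθ χ
  refine Many.of_card_irr (B.image θ) ?_ ?_
  · intro t ht
    obtain ⟨χ, hχ, rfl⟩ := Finset.mem_image.1 ht
    exact hdeg χ hχ
  · have h1 : (m - 1) * o * N.index < (B.image θ).card * N.index := by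
      rw [mul_comm (B.image θ).card]
      omega
    have h2 := Nat.lt_of_mul_lt_mul_right h1
    exact lt_of_le_of_lt (Nat.mul_le_mul_left _ ho) h2

end Cfsg.Agent.H153.Dl
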