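import Cfsg.Agent.H153.Dl.K24.E0
import Cfsg.Agent.H153.Dl.K24.E1
import Cfsg.Agent.H153.Dl.K24.E2
import Cfsg.Agent.H153.Dl.K24.E3
import Cfsg.Agent.H153.Dl.K24.O0
import Cfsg.Agent.H153.Dl.K24.O1
import Cfsg.Agent.H153.Dl.K24.O2
import Cfsg.Agent.H153.Dl.K24.O3
import Cfsg.Agent.H843.One

/-!
# The numbers of classes of `Fi24` and `Fi24'` (helper153)

* `le_k` : `Fi24` has at least 94 classes;
* `le_k'` : `Fi24'` has at least 48 classes.
-/

set_option autoImplicit false
set_option maxRecDepth 100000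

namespace Cfsg.Agent.H153.Dl.K24

open Cfsg Cfsg.Agent.H153.Dl Cfsg.Agent.H153.Dl.PR
open Cfsg.Spor (Fi24)
open Cfsg.Spor.Fi24 (Gen)
open Cfsg.Agent.R08.FiTwentyFour (index_commutator)

theorem word_mem' (l : List Gen) : Fischer.Fi24Rep.word l ∈ commutator Fi24 ↔ Even l.length := by
  induction l with
  | nil =>
    rw [Fischer.Fi24Spider.word_nil]
    exact ⟨fun _ => by simp, fun _ => one_mem _⟩
  | cons c l ih =>
    have hc : Fischer.Fi24Rep.gen c ∉ commutator Fi24 :=
      Cfsg.Agent.R08.FiTwentyFour.odd (Cfsg.Agent.R08.FiTwentyFour.gen_mem_L c)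
    rw [Fischer.Fi24Spider.word_cons, Subgroup.mul_mem_iff_of_index_two index_commutator, ih, List.length_cons,
      Nat.even_add_one]
    tauto

theorem word_mem (l : List Gen) : R24.word l ∈ commutator Fi24 ↔ Even l.length := word_mem' l

/-- the even words -/
def tE : List (List Gen × ℕ × ℕ) := E0 ++ (E1 ++ (E2 ++ E3))

/-- the odd words -/
def tO : List (List Gen × ℕ × ℕ) := O0 ++ (O1 ++ (O2 ++ O3))

theorem tE_ok : ∀ q ∈ tE, chk R24 19 q = true :=
  List.forall_mem_append.2 ⟨E0_ok, List.forall_mem_append.2 ⟨E1_ok, List.forall_mem_append.2 ⟨E2_ok, E3_ok⟩⟩⟩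

theorem tO_ok : ∀ q ∈ tO, chk R24 19 q = true :=
  List.forall_mem_append.2 ⟨O0_ok, List.forall_mem_append.2 ⟨O1_ok, List.forall_mem_append.2 ⟨O2_ok, O3_ok⟩⟩⟩

theorem t_ok : ∀ q ∈ tE ++ tO, chk R24 19 q = true := List.forall_mem_append.2 ⟨tE_ok, tO_ok⟩

theorem t_nodup : ((tE ++ tO).map fun q => (q.1.length % 2, q.2)).Nodup := by decide +kernel

theorem tE_nodup : (tE.map fun q => q.2).Nodup := by decide +kernel

theorem tE_even : ∀ q ∈ tE, q.1.length % 2 = 0 := by decide +kernel

open Classical in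
/-- the parity -/
noncomputable def par (g : Fi24) : ℕ := if g ∈ commutator Fi24 then 0 else 1

theorem par_word (l : List Gen) : par (R24.word l) = l.length % 2 := by
  unfold par
  split_ifs with h
  · exact (Nat.even_iff.1 ((word_mem l).1 h)).symm
  · exact (Nat.odd_iff.1 (Nat.not_even_iff_odd.1 fun h' => h ((word_mem l).2 h'))).symm

theorem par_isConj {g h : Fi24} (hc : IsConj g h) : par g = par h := by
  obtain ⟨c, rfl⟩ := isConj_iff.1 hc
  have e : g ∈ commutator Fi24 ↔ c * g * c⁻¹ ∈ commutator Fi24 :=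
    ⟨fun h1 => Subgroup.Normal.conj_mem inferInstance g h1 c, fun h1 => by
      have h2 := Subgroup.Normal.conj_mem (inferInstance : (commutator Fi24).Normal) _ h1 c⁻¹
      have e2 : c⁻¹ * (c * g * c⁻¹) * c⁻¹⁻¹ = g := by group
      rwa [e2] at h2⟩
  unfold par
  by_cases h1 : g ∈ commutator Fi24
  · rw [if_pos h1, if_pos (e.1 h1)]
  · rw [if_neg h1, if_neg fun h2 => h1 (e.2 h2)]

theorem length_t : (tE ++ tO).length = 94 := by decide +kernel

theorem length_tE : tE.length = 48 := by decide +kernel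

/-- **`Fi24` has at least 94 classes.** -/
theorem le_k [Finite Fi24] : 94 ≤ Nat.card (ConjClasses Fi24) := by
  have h1 := card_le_of_sig (fun g : Fi24 => (par g, R24.Fx g, R24.Fx (g * g)))
    (fun g h hc => by
      have h2 : R24.Fx (g * g) = R24.Fx (h * h) := by
        rw [← pow_two, ← pow_two]; exact Fx_pow_isConj cnt24 hc 2
      rw [par_isConj hc, Fx_isConj cnt24 hc, h2])
    ((tE ++ tO).map fun q => R24.word q.1)
    (by
      rw [List.map_map]
      have h3 : (tE ++ tO).map ((fun g : Fi24 => (par g, R24.Fx g, R24.Fx (g * g))) ∘ fun q => R24.word q.1) =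
          (tE ++ tO).map fun q => (q.1.length % 2, q.2) := by
        refine List.map_congr_left fun q hq => ?_
        obtain ⟨h4, h5⟩ := chk_spec cnt24 (t_ok q hq)
        show (par (R24.word q.1), R24.Fx (R24.word q.1), R24.Fx (R24.word q.1 * R24.word q.1)) = _
        rw [par_word, h4, h5]
      exact h3.symm ▸ t_nodup)
  rwa [List.length_map, length_t] at h1

open Classical in
/-- an even word as an element of `Fi24'` -/
noncomputable def w' (l : List Gen) : Spor.Fi24' := if h : R24.word l ∈ commutator Fi24 then ⟨R24.word l, h⟩ else 1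

theorem coe_w' {l : List Gen} (h : l.length % 2 = 0) : ((w' l : Spor.Fi24') : Fi24) = R24.word l := by
  unfold w'
  rw [dif_pos ((word_mem l).2 (Nat.even_iff.2 h))]

/-- **`Fi24'` has at least 48 classes.** -/
theorem le_k' [Finite Spor.Fi24'] : 48 ≤ Nat.card (ConjClasses Spor.Fi24') := by
  have h1 := card_le_of_sig (fun g : Spor.Fi24' => (R24.Fx (g : Fi24), R24.Fx ((g : Fi24) * (g : Fi24))))
    (fun g h hc => by
      have h0 : IsConj (g : Fi24) (h : Fi24) := by
        obtain ⟨c, hc⟩ := isConj_iff.1 hc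
        exact isConj_iff.2 ⟨c, congrArg Subtype.val hc⟩
      have h2 : R24.Fx ((g : Fi24) * g) = R24.Fx ((h : Fi24) * h) := by
        rw [← pow_two, ← pow_two]; exact Fx_pow_isConj cnt24 h0 2
      rw [Fx_isConj cnt24 h0, h2])
    (tE.map fun q => w' q.1)
    (by
      rw [List.map_map]
      have h3 : tE.map ((fun g : Spor.Fi24' => (R24.Fx (g : Fi24), R24.Fx ((g : Fi24) * (g : Fi24)))) ∘ fun q => w' q.1) =
          tE.map fun q => q.2 := by
        refine List.map_congr_left fun q hq => ?_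
        obtain ⟨h4, h5⟩ := chk_spec cnt24 (tE_ok q hq)
        show (R24.Fx ((w' q.1 : Spor.Fi24') : Fi24), R24.Fx (((w' q.1 : Spor.Fi24') : Fi24) * ((w' q.1 : Spor.Fi24') : Fi24))) = _
        rw [coe_w' (tE_even q hq), h4, h5]
      exact h3.symm ▸ tE_nodup)
  rwa [List.length_map, length_tE] at h1

end Cfsg.Agent.H153.Dl.K24
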