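import Cfsg.Agent.Lib.PermNetFix
import Cfsg.Agent.Lib.PermNetPt
import Cfsg.Agent.Lib.PermNetOrbit
import Cfsg.Agent.H593.IMRank

/-!
# Centralizers and numbers of fixed points in a group of 3-transpositions, by patterns (helper153)

`PR G` : the group `G` acts on points (natural numbers) carrying transpositions (`IsPt d q`), the words in the letters
are evaluated by networks. After helper843's `H843.Pat` (normalizers in `Fi24`).

* `not_moved` : an element commuting with `x` carries `p0` to a point with the same pattern;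
* `Data.Ok.card_le` : the bound of the order of `C(x)` by a covering of the points;
* `word_eq_of` : identities between words are checked on the points of the generators;
* `Fx`, `card_le_conjClasses` : classes separated by the numbers of fixed points of `g` and `g²`.
-/

set_option autoImplicit false
set_option maxRecDepth 100000

namespace Cfsg.Agent.H153.Dl

open Cfsg Cfsg.Agent.Lib.PermNet Cfsg.Agent.Lib.PermNetPt Cfsg.Agent.Lib.PermNetFix

/-- A group acting on points with transpositions, evaluated by networks. -/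
structure PR (G : Type) [Group G] where
  Lt : Type
  N : ℕ
  nw : List Lt → List Net
  wok : ∀ l, WOk N (nw l)
  word : List Lt → G
  word_nil : word [] = 1
  word_append : ∀ l l', word (l ++ l') = word l * word l'
  word_reverse : ∀ l, word l.reverse = (word l)⁻¹
  rho : G →* Equiv.Perm ℕ
  rho_word : ∀ l, rho (word l) = wperm (nw l)
  IsPt : G → ℕ → Prop
  conj : ∀ {d : G} {p : ℕ}, IsPt d p → ∀ g, IsPt (g * d * g⁻¹) (rho g p)
  inj : ∀ {d d' : G} {p : ℕ}, IsPt d p → IsPt d' p → d = d'
  gl : List Lt
  gd : ℕ → Lt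
  pn : Lt → ℕ
  isPt_gen : ∀ c, IsPt (word [c]) (pn c)
  U : ℕ
  bit : ∀ {d : G} {p : ℕ}, IsPt d p → U.testBit p = true
  eq_one : ∀ g, (∀ c ∈ gl, g * word [c] = word [c] * g) → g = 1

variable {G : Type} [Group G] (R : PR G)

namespace PR

theorem conj_eq {d d' g : G} {p q : ℕ} (h : R.IsPt d p) (h' : R.IsPt d' q) (hg : R.rho g p = q) :
    g * d * g⁻¹ = d' := by
  subst hg
  exact R.inj (R.conj h g) h'

theorem comm_of_fix {d g : G} {p : ℕ} (h : R.IsPt d p) (hg : R.rho g p = p) : g * d = d * g :=
  mul_inv_eq_iff_eq_mul.1 (R.conj_eq h h hg)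

/-! ### Patterns -/

/-- If the transposition at `p0` fixes the point `x ^ j p0`, and `h` commutes with `x` and carries `p0` to `q`, then
the transposition at `q` fixes the point `x ^ j q`. -/
theorem pat_conj {x h d0 d : G} {p0 q j : ℕ} (hx : h * x = x * h) (h0 : R.IsPt d0 p0) (hd : R.IsPt d q)
    (hq : R.rho h p0 = q) (hj : R.rho d0 (R.rho (x ^ j) p0) = R.rho (x ^ j) p0) :
    R.rho d (R.rho (x ^ j) q) = R.rho (x ^ j) q := by
  have e1 : h * d0 * h⁻¹ = d := R.conj_eq h0 hd hq
  have e2 : x ^ j * h = h * x ^ j := by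
    have h1 : Commute h x := hx
    exact (h1.pow_right j).eq.symm
  have e3 : R.rho (x ^ j) q = R.rho h (R.rho (x ^ j) p0) := by
    rw [← hq, ← Equiv.Perm.mul_apply, ← Equiv.Perm.mul_apply, ← map_mul, ← map_mul, e2]
  rw [e3, ← e1, ← Equiv.Perm.mul_apply, ← map_mul]
  have e4 : h * d0 * h⁻¹ * h = h * d0 := by group
  rw [e4, map_mul, Equiv.Perm.mul_apply, hj]

theorem pat_conj_iff {x h d0 d : G} {p0 q j : ℕ} (hx : h * x = x * h) (h0 : R.IsPt d0 p0) (hd : R.IsPt d q)
    (hq : R.rho h p0 = q) : R.rho d0 (R.rho (x ^ j) p0) = R.rho (x ^ j) p0 ↔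
    R.rho d (R.rho (x ^ j) q) = R.rho (x ^ j) q := by
  refine ⟨R.pat_conj hx h0 hd hq, R.pat_conj (h := h⁻¹) ?_ hd h0 ?_⟩
  · have h1 : Commute h x := hx
    exact h1.inv_left.eq
  · rw [map_inv, Equiv.Perm.inv_eq_iff_eq, hq]

/-! ### Words as numbers -/

/-- The word with the hexadecimal digits of `n`, the least significant one first. -/
noncomputable def dec {Lt : Type} (gd : ℕ → Lt) (f : ℕ) : ℕ → List Lt :=
  Nat.rec (motive := fun _ => ℕ → List Lt) (fun _ => [])
    (fun _ ih n => Bool.rec (gd (Nat.mod n 16) :: force (Nat.div n 16) ih) [] (Nat.beq n 0)) f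

/-! ### Evaluation -/

theorem winv_word (u : List R.Lt) (p : ℕ) : winv (R.nw u) p = R.rho (R.word u)⁻¹ p := by
  rw [winv_eq (R.wok u), map_inv, R.rho_word]

/-- the reversed word -/
theorem winv_reverse (u : List R.Lt) (p : ℕ) : winv (R.nw u.reverse) p = R.rho (R.word u) p := by
  rw [R.winv_word, R.word_reverse, inv_inv]

/-- Powers of a word. -/
def rep {Lt : Type} (n : ℕ) (l : List Lt) : List Lt :=
  Nat.rec (motive := fun _ => List Lt) [] (fun _ ih => l ++ ih) n

theorem word_rep (n : ℕ) (l : List R.Lt) : R.word (rep n l) = R.word l ^ n := by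
  induction n with
  | zero => rw [pow_zero]; exact R.word_nil
  | succ n ih =>
    show R.word (l ++ rep n l) = _
    rw [R.word_append, ih, pow_succ']

/-- Both words have the same inverse image at all the points of the generators. -/
noncomputable def chkEq (u v : List R.Lt) : Bool :=
  List.rec (motive := fun _ => Bool) true
    (fun x _ ih => Bool.rec false ih (Nat.beq (winv (R.nw u) (R.pn x)) (winv (R.nw v) (R.pn x)))) R.gl

theorem all_of_rec {Lt : Type} (f : Lt → Bool) : ∀ l : List Lt, (List.rec (motive := fun _ => Bool) true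
    (fun x _ ih => Bool.rec false ih (f x)) l : Bool) = true → ∀ x ∈ l, f x = true
  | [], _, x, hx => absurd hx (by simp)
  | y :: l, h, x, hx => by
    have h' : (Bool.rec false (List.rec (motive := fun _ => Bool) true
      (fun x _ ih => Bool.rec false ih (f x)) l : Bool) (f y) : Bool) = true := h
    have h1 : f y = true := by
      cases hc : f y with
      | false => rw [hc] at h'; exact absurd h' (by simp)
      | true => rfl
    rw [h1] at h'
    rcases List.mem_cons.1 hx with rfl | hx
    · exact h1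
    · exact all_of_rec f l h' x hx

/-- elements with the same effect on the points of the generators are equal -/
theorem eq_of_pts {g h : G} (H : ∀ x ∈ R.gl, R.rho g (R.pn x) = R.rho h (R.pn x)) : g = h := by
  have h1 : h⁻¹ * g = 1 := by
    apply R.eq_one
    intro x hx
    have h2 := R.conj_eq (R.isPt_gen x) (R.conj (R.isPt_gen x) h) (H x hx)
    calc h⁻¹ * g * R.word [x] = h⁻¹ * (g * R.word [x] * g⁻¹) * g := by group
      _ = h⁻¹ * (h * R.word [x] * h⁻¹) * g := by rw [h2]
      _ = R.word [x] * (h⁻¹ * g) := by group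
  exact (inv_mul_eq_one.1 h1).symm

/-- **Identities between words are checked on the points of the generators.** -/
theorem word_eq_of {u v : List R.Lt} (h : R.chkEq u v = true) : R.word u = R.word v := by
  have h1 : (R.word u)⁻¹ = (R.word v)⁻¹ := by
    apply R.eq_of_pts
    intro x hx
    have h2 := all_of_rec (fun x => Nat.beq (winv (R.nw u) (R.pn x)) (winv (R.nw v) (R.pn x))) R.gl h x hx
    have h3 := Nat.eq_of_beq_eq_true h2
    rwa [R.winv_word, R.winv_word] at h3
  exact inv_injective h1

theorem comm_of {u v : List R.Lt} (h : R.chkEq (u ++ v) (v ++ u) = true) :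
    R.word u * R.word v = R.word v * R.word u := by
  rw [← R.word_append, ← R.word_append]
  exact R.word_eq_of h

theorem comm_rep {v : List R.Lt} (n : ℕ) : R.word (rep n v) * R.word v = R.word v * R.word (rep n v) := by
  rw [R.word_rep, ← pow_succ, ← pow_succ']

/-! ### Certificates -/

/-- `z` is moved by the transposition of the word `u` and the letter `c`. -/
noncomputable def mvd (u : List Net) (c : List Net) (z : ℕ) : Bool :=
  force (winv u z) fun v => Bool.rec true false (Nat.beq (winv c v) v)

/-- apply `x` (`n` times) and go on -/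
noncomputable def itx (xr : List Net) (k : ℕ → Bool) (n : ℕ) : ℕ → Bool :=
  Nat.rec (motive := fun _ => ℕ → Bool) k (fun _ ih y => force (winv xr y) ih) n

theorem itx_eq (xw : List R.Lt) (k : ℕ → Bool) (n y : ℕ) :
    itx (R.nw xw.reverse) k n y = k (R.rho (R.word xw ^ n) y) := by
  induction n generalizing y with
  | zero => rw [pow_zero, map_one]; rfl
  | succ n ih =>
    show force (winv (R.nw xw.reverse) y) (itx (R.nw xw.reverse) k n) = _
    rw [force_eq, ih, R.winv_reverse, pow_succ, map_mul, Equiv.Perm.mul_apply]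

/-- the transposition of the word `u` and the letter `c` -/
def tr (u : List R.Lt) (c : R.Lt) : G := R.word u * R.word [c] * (R.word u)⁻¹

theorem isPt_tr {u : List R.Lt} {c : R.Lt} {q : ℕ} (h : R.rho (R.word u) (R.pn c) = q) :
    R.IsPt (R.tr u c) q := by
  subst h
  exact R.conj (R.isPt_gen c) _

theorem mvd_iff (u : List R.Lt) (c : R.Lt) (z : ℕ) :
    mvd (R.nw u) (R.nw [c]) z = true ↔ R.rho (R.tr u c) z ≠ z := by
  unfold mvd
  rw [force_eq, R.winv_word, R.winv_word]
  have key : R.rho (R.tr u c) z = z ↔ R.rho (R.word [c])⁻¹ (R.rho (R.word u)⁻¹ z) = R.rho (R.word u)⁻¹ z := by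
    unfold tr
    rw [map_mul, map_mul, Equiv.Perm.mul_apply, Equiv.Perm.mul_apply, map_inv (R.rho) (R.word [c]),
      Equiv.Perm.inv_eq_iff_eq]
    rw [show (R.rho (R.word u)⁻¹ z) = (R.rho (R.word u))⁻¹ z by rw [map_inv]]
    rw [Equiv.Perm.eq_inv_iff_eq.symm.trans eq_comm]
  cases hb : Nat.beq (R.rho (R.word [c])⁻¹ (R.rho (R.word u)⁻¹ z)) (R.rho (R.word u)⁻¹ z) with
  | true =>
    have h1 := key.2 (Nat.eq_of_beq_eq_true hb)
    constructor
    · intro h
      exact absurd h (by simp)
    · exact fun h => absurd h1 h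
  | false =>
    constructor
    · intro _ h1
      have h2 := key.1 h1
      rw [h2, Nat.beq_refl] at hb
      exact absurd hb (by simp)
    · exact fun _ => rfl

/-- the point `x ^ j q` is moved (`b = true`) or fixed (`b = false`) by the transposition of `u`, `c` -/
noncomputable def cf (xr u c : List Net) (b : Bool) (j : ℕ) : ℕ → Bool :=
  itx xr (fun z => Bool.rec (Bool.rec true false (mvd u c z)) (mvd u c z) b) j

theorem cf_true {xw u : List R.Lt} {c : R.Lt} {j q : ℕ}
    (h : cf (R.nw xw.reverse) (R.nw u) (R.nw [c]) true j q = true) :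
    R.rho (R.tr u c) (R.rho (R.word xw ^ j) q) ≠ R.rho (R.word xw ^ j) q := by
  unfold cf at h
  rw [itx_eq] at h
  exact (R.mvd_iff u c _).1 h

theorem cf_false {xw u : List R.Lt} {c : R.Lt} {j q : ℕ}
    (h : cf (R.nw xw.reverse) (R.nw u) (R.nw [c]) false j q = true) :
    R.rho (R.tr u c) (R.rho (R.word xw ^ j) q) = R.rho (R.word xw ^ j) q := by
  unfold cf at h
  rw [itx_eq] at h
  by_contra hne
  have h1 := (R.mvd_iff u c _).2 hne
  replace h : (Bool.rec true false (mvd (R.nw u) (R.nw [c]) (R.rho (R.word xw ^ j) q)) : Bool) = true := h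
  rw [h1] at h
  exact absurd h (by simp)

/-- the certificate of a point `q`: `cu` is the code of the transposition -/
noncomputable def chk1 (xr : List Net) (b : Bool) (j q cu : ℕ) : Bool :=
  (fun (c : R.Lt) (u : List R.Lt) => Bool.rec false (cf xr (R.nw u) (R.nw [c]) b j q)
    (Nat.beq (winv (R.nw u) q) (R.pn c))) (R.gd (Nat.mod cu 16)) (dec R.gd 100 (Nat.div cu 16))

theorem chk1_spec {xw : List R.Lt} {b : Bool} {j q cu : ℕ} (h : R.chk1 (R.nw xw.reverse) b j q cu = true) :
    ∃ d, R.IsPt d q ∧ (b = true → R.rho d (R.rho (R.word xw ^ j) q) ≠ R.rho (R.word xw ^ j) q) ∧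
      (b = false → R.rho d (R.rho (R.word xw ^ j) q) = R.rho (R.word xw ^ j) q) := by
  unfold chk1 at h
  generalize R.gd (Nat.mod cu 16) = c at h
  generalize dec R.gd 100 (Nat.div cu 16) = u at h
  replace h : (Bool.rec false (cf (R.nw xw.reverse) (R.nw u) (R.nw [c]) b j q)
    (Nat.beq (winv (R.nw u) q) (R.pn c)) : Bool) = true := h
  have h1 : Nat.beq (winv (R.nw u) q) (R.pn c) = true := by
    cases hc : Nat.beq (winv (R.nw u) q) (R.pn c) with
    | false => rw [hc] at h; exact absurd h (by simp)
    | true => rfl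
  rw [h1] at h
  have h2 := Nat.eq_of_beq_eq_true h1
  rw [R.winv_word, map_inv, Equiv.Perm.inv_eq_iff_eq] at h2
  refine ⟨R.tr u c, R.isPt_tr h2.symm, ?_, ?_⟩
  · rintro rfl
    exact R.cf_true h
  · rintro rfl
    exact R.cf_false h

/-- the certificates of a list of points -/
noncomputable def chkL (xr : List Net) (b : Bool) (j : ℕ) (qs : List (ℕ × ℕ)) : Bool :=
  List.rec (motive := fun _ => Bool) true (fun a _ ih => Bool.rec false ih (R.chk1 xr b j a.1 a.2)) qs

theorem chkL_spec {xr : List Net} {b : Bool} {j : ℕ} {qs : List (ℕ × ℕ)} (h : R.chkL xr b j qs = true) :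
    ∀ a ∈ qs, R.chk1 xr b j a.1 a.2 = true := by
  induction qs with
  | nil => intro a ha; exact absurd ha (by simp)
  | cons c qs ih =>
    have h' : (Bool.rec false (R.chkL xr b j qs) (R.chk1 xr b j c.1 c.2) : Bool) = true := h
    have h1 : R.chk1 xr b j c.1 c.2 = true := by
      cases hc : R.chk1 xr b j c.1 c.2 with
      | false => rw [hc] at h'; exact absurd h' (by simp)
      | true => rfl
    rw [h1] at h'
    intro a ha
    rcases List.mem_cons.1 ha with rfl | ha
    · exact h1
    · exact ih h' a ha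

/-! ### Coverings -/

/-- The mask of a list of points. -/
noncomputable def msk (l : List ℕ) : ℕ :=
  List.rec (motive := fun _ => ℕ) 0 (fun p _ ih => Nat.lor (Nat.pow 2 p) ih) l

theorem testBit_msk (l : List ℕ) (p : ℕ) : (msk l).testBit p = true ↔ p ∈ l := by
  induction l with
  | nil =>
    show (0 : ℕ).testBit p = true ↔ _
    simp
  | cons q l ih =>
    show (2 ^ q ||| msk l).testBit p = true ↔ _
    rw [Nat.testBit_or, Bool.or_eq_true, ih, List.mem_cons, Nat.testBit_two_pow, decide_eq_true_eq]
    exact or_congr_left eq_comm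

/-- the mask of the points of a list of certificates -/
noncomputable def mskc (l : List (ℕ × ℕ)) : ℕ :=
  List.rec (motive := fun _ => ℕ) 0 (fun p _ ih => Nat.lor (Nat.pow 2 p.1) ih) l

theorem testBit_mskc (l : List (ℕ × ℕ)) (p : ℕ) : (mskc l).testBit p = true ↔ ∃ a ∈ l, a.1 = p := by
  induction l with
  | nil =>
    show (0 : ℕ).testBit p = true ↔ _
    simp
  | cons q l ih =>
    show (2 ^ q.1 ||| mskc l).testBit p = true ↔ _
    rw [Nat.testBit_or, Bool.or_eq_true, ih, Nat.testBit_two_pow, decide_eq_true_eq, List.exists_mem_cons_iff]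

/-- add to `A` the inverse images of `M` by the words of the list -/
noncomputable def stp (M : ℕ) (ws : List (List R.Lt)) : ℕ → ℕ :=
  List.rec (motive := fun _ => ℕ → ℕ) (fun A => A)
    (fun w _ ih A => seq (Nat.lor A (appWord (R.nw w) M)) ih) ws

theorem stp_spec : ∀ (ws : List (List R.Lt)) (M A p : ℕ), (R.stp M ws A).testBit p = true →
    A.testBit p = true ∨ ∃ w ∈ ws, M.testBit (R.rho (R.word w) p) = true
  | [], M, A, p, h => Or.inl h
  | w :: ws, M, A, p, h => by
    have h1 : seq (Nat.lor A (appWord (R.nw w) M)) (R.stp M ws) = R.stp M (w :: ws) A := rfl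
    rw [← h1, seq_eq] at h
    rcases stp_spec ws M _ p h with h2 | ⟨v, hv, h2⟩
    · rw [show Nat.lor A (appWord (R.nw w) M) = A ||| appWord (R.nw w) M from rfl, Nat.testBit_or,
        Bool.or_eq_true] at h2
      rcases h2 with h2 | h2
      · exact Or.inl h2
      · rw [testBit_appWord (R.wok w), ← R.rho_word] at h2
        exact Or.inr ⟨w, List.mem_cons_self, h2⟩
    · exact Or.inr ⟨v, List.mem_cons_of_mem _ hv, h2⟩

/-- add to `M` its inverse images by the words of a step, one step after the other -/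
noncomputable def cov (ss : List (List (List R.Lt))) : ℕ → ℕ :=
  List.rec (motive := fun _ => ℕ → ℕ) (fun M => M) (fun s _ ih M => seq (R.stp M s M) ih) ss

/-- the products of the words of the steps -/
noncomputable def TL : List (List (List R.Lt)) → List G
  | [] => [1]
  | s :: ss => TL ss ++ s.flatMap fun w => (TL ss).map fun t => R.word w * t

/-- the number of products -/
def cnt {Lt : Type} : List (List (List Lt)) → ℕ
  | [] => 1
  | s :: ss => (s.length + 1) * cnt ss

theorem length_TL : ∀ ss : List (List (List R.Lt)), (R.TL ss).length = cnt ss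
  | [] => rfl
  | s :: ss => by
    show (R.TL ss ++ s.flatMap fun w => (R.TL ss).map fun t => R.word w * t).length = (s.length + 1) * cnt ss
    have h : ∀ s : List (List R.Lt), (s.flatMap fun w => (R.TL ss).map fun t => R.word w * t).length =
        s.length * (R.TL ss).length := by
      intro s
      induction s with
      | nil => simp
      | cons w s ih =>
        rw [List.flatMap_cons, List.length_append, ih, List.length_map, List.length_cons]
        ring
    rw [List.length_append, h, length_TL ss]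
    ring

theorem TL_mem {N : Subgroup G} : ∀ {ss : List (List (List R.Lt))}, (∀ s ∈ ss, ∀ w ∈ s, R.word w ∈ N) →
    ∀ t ∈ R.TL ss, t ∈ N
  | [], _, t, ht => by
    rw [List.mem_singleton.1 ht]
    exact N.one_mem
  | s :: ss, h, t, ht => by
    have ih := TL_mem (N := N) (ss := ss) fun v hv => h v (List.mem_cons_of_mem _ hv)
    rcases List.mem_append.1 (show t ∈ R.TL ss ++ s.flatMap fun w => (R.TL ss).map fun t => R.word w * t from ht)
      with ht | ht
    · exact ih t ht
    · obtain ⟨w, hw, ht⟩ := List.mem_flatMap.1 ht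
      obtain ⟨r, hr, rfl⟩ := List.mem_map.1 ht
      exact N.mul_mem (h s List.mem_cons_self w hw) (ih r hr)

theorem cov_spec : ∀ (ss : List (List (List R.Lt))) (M p : ℕ), (R.cov ss M).testBit p = true →
    ∃ t ∈ R.TL ss, M.testBit (R.rho t p) = true
  | [], M, p, h => ⟨1, List.mem_singleton.2 rfl, by rw [map_one]; exact h⟩
  | s :: ss, M, p, h => by
    have h1 : seq (R.stp M s M) (R.cov ss) = R.cov (s :: ss) M := rfl
    rw [← h1, seq_eq] at h
    obtain ⟨t, ht, h2⟩ := cov_spec ss _ p h
    rcases R.stp_spec s M M _ h2 with h3 | ⟨w, hw, h3⟩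
    · exact ⟨t, List.mem_append_left _ ht, h3⟩
    · refine ⟨R.word w * t, List.mem_append_right _
        (List.mem_flatMap.2 ⟨w, hw, List.mem_map.2 ⟨t, ht, rfl⟩⟩), ?_⟩
      rw [map_mul, Equiv.Perm.mul_apply]
      exact h3

/-- All the points are moved into `M` by the products of the words of the steps. -/
def Cv (ss : List (List (List R.Lt))) (M : ℕ) : Prop :=
  ∀ p, R.U.testBit p = true → ∃ t ∈ R.TL ss, M.testBit (R.rho t p) = true

theorem cv_of {ss : List (List (List R.Lt))} {M : ℕ}
    (h : Nat.beq (Nat.land R.U (R.cov ss M)) R.U = true) : R.Cv ss M := by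
  intro p hp
  have h1 : R.U &&& R.cov ss M = R.U := Nat.eq_of_beq_eq_true h
  rw [← h1, Nat.testBit_and, Bool.and_eq_true] at hp
  exact R.cov_spec ss M p hp.2

/-! ### The bound -/

/-- The points are acted upon by a subgroup. -/
@[reducible] noncomputable def act (N : Subgroup G) : MulAction N ℕ := MulAction.compHom ℕ (R.rho.comp N.subtype)

/-- **The order of a group of elements commuting with `x`.** `T` moves every point of the orbit of `p0` into the
list `good`. -/
theorem card_le (N : Subgroup G) (x : G) (p0 : ℕ) (T : List G) (good : List ℕ)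
    (hcov : ∀ h ∈ N, ∃ t ∈ T, R.rho (t * h) p0 ∈ good)
    (hst : ∀ h ∈ N, h * x = x * h)
    (hgen : ∀ z : G, z * x = x * z → R.rho z p0 = p0 → z = 1) :
    Nat.card N ≤ T.length * good.length := by
  classical
  let _ := R.act N
  -- the orbit
  have h2 : MulAction.orbit N p0 ⊆ ((T.product good).map fun a => R.rho a.1⁻¹ a.2).toFinset := by
    rintro q ⟨h, rfl⟩
    obtain ⟨t, ht, hq⟩ := hcov h h.2
    rw [Finset.mem_coe, List.mem_toFinset, List.mem_map]
    refine ⟨(t, R.rho (t * h) p0), List.mem_product.2 ⟨ht, hq⟩, ?_⟩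
    show R.rho t⁻¹ (R.rho (t * h) p0) = R.rho (h : G) p0
    rw [← Equiv.Perm.mul_apply, ← map_mul, inv_mul_cancel_left]
  have hf : (MulAction.orbit N p0).Finite := (Finset.finite_toSet _).subset h2
  have h1 : (MulAction.orbit N p0).ncard ≤ T.length * good.length := by
    refine (Set.ncard_le_ncard h2 (Finset.finite_toSet _)).trans ?_
    rw [Set.ncard_coe_finset]
    refine (List.toFinset_card_le _).trans ?_
    rw [List.length_map]
    exact le_of_eq (List.length_product ..)
  -- the stabilizer is trivial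
  have h3 : Function.Injective fun h : N => (⟨h • p0, h, rfl⟩ : MulAction.orbit N p0) := by
    intro a b hab
    have h4 : R.rho (a : G) p0 = R.rho (b : G) p0 := congrArg Subtype.val hab
    have hz : (b : G)⁻¹ * (a : G) = 1 := by
      apply hgen
      · have ha : Commute (a : G) x := hst a a.2
        have hb : Commute (b : G) x := hst b b.2
        exact (hb.inv_left.mul_left ha).eq
      · rw [map_mul, Equiv.Perm.mul_apply, map_inv, Equiv.Perm.inv_eq_iff_eq, h4]
    exact Subtype.ext (inv_mul_eq_one.1 hz).symm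
  have := hf.to_subtype
  refine (Nat.card_le_card_of_injective _ h3).trans ?_
  rw [Nat.card_coe_set_eq]
  exact h1

/-! ### The trivial centralizer -/

/-- the word of a word in `t0`, `x`, `x⁻¹` (digits `0`, `1`, `2`) -/
def ex {Lt : Type} (tw xw : List Lt) : List (Fin 3) → List Lt
  | [] => []
  | a :: l => (if a = 0 then tw else if a = 1 then xw else xw.reverse) ++ ex tw xw l

theorem ex_comm {z : G} {tw xw : List R.Lt} (ht : z * R.word tw = R.word tw * z)
    (hx : z * R.word xw = R.word xw * z) :
    ∀ l : List (Fin 3), z * R.word (ex tw xw l) = R.word (ex tw xw l) * z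
  | [] => by show z * R.word [] = R.word [] * z; rw [R.word_nil, mul_one, one_mul]
  | a :: l => by
    have ih := ex_comm ht hx l
    have key : ∀ v : List R.Lt, z * R.word v = R.word v * z →
        z * R.word (v ++ ex tw xw l) = R.word (v ++ ex tw xw l) * z := by
      intro v hv
      rw [R.word_append, ← mul_assoc, hv, mul_assoc, ih, mul_assoc]
    apply key
    split_ifs
    · exact ht
    · exact hx
    · rw [R.word_reverse]
      have h1 : Commute z (R.word xw) := hx
      exact h1.inv_right.eq

/-- the words of the list carry `p0` to the points of the generators -/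
noncomputable def genB (tw xw : List R.Lt) (p0 : ℕ) (ls : List (List (Fin 3))) : Bool :=
  List.rec (motive := fun _ => List (List (Fin 3)) → Bool) (fun _ => true)
    (fun x _ ih ls => List.rec (motive := fun _ => Bool) false
      (fun l ls' _ => Bool.rec false (ih ls') (chkPt (R.nw (ex tw xw l)) p0 (R.pn x))) ls) R.gl ls

theorem genB_spec_aux {tw xw : List R.Lt} {p0 : ℕ} : ∀ (g : List R.Lt) (ls : List (List (Fin 3))),
    (List.rec (motive := fun _ => List (List (Fin 3)) → Bool) (fun _ => true)
    (fun x _ ih ls => List.rec (motive := fun _ => Bool) false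
      (fun l ls' _ => Bool.rec false (ih ls') (chkPt (R.nw (ex tw xw l)) p0 (R.pn x))) ls) g ls : Bool) = true →
    ∀ x ∈ g, ∃ l, R.rho (R.word (ex tw xw l)) p0 = R.pn x
  | [], _, _, x, hx => absurd hx (by simp)
  | y :: g, [], h, x, _ => absurd h (by simp)
  | y :: g, l :: ls, h, x, hx => by
    have h' : (Bool.rec false ((List.rec (motive := fun _ => List (List (Fin 3)) → Bool) (fun _ => true)
      (fun x _ ih ls => List.rec (motive := fun _ => Bool) false
      (fun l ls' _ => Bool.rec false (ih ls') (chkPt (R.nw (ex tw xw l)) p0 (R.pn x))) ls) g ls : Bool))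
      (chkPt (R.nw (ex tw xw l)) p0 (R.pn y)) : Bool) = true := h
    have h1 : chkPt (R.nw (ex tw xw l)) p0 (R.pn y) = true := by
      cases hc : chkPt (R.nw (ex tw xw l)) p0 (R.pn y) with
      | false => rw [hc] at h'; exact absurd h' (by simp)
      | true => rfl
    rw [h1] at h'
    rcases List.mem_cons.1 hx with rfl | hx
    · refine ⟨l, ?_⟩
      rw [R.rho_word]
      exact chkPt_spec (R.wok _) h1
    · exact genB_spec_aux g ls h' x hx

/-- **An element commuting with `x` and with the transposition at `p0` is trivial.** -/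
theorem eq_one_of_gen {tw xw : List R.Lt} {p0 : ℕ} {ls : List (List (Fin 3))} (h : R.genB tw xw p0 ls = true)
    (h0 : R.IsPt (R.word tw) p0) {z : G} (hx : z * R.word xw = R.word xw * z) (hz : R.rho z p0 = p0) : z = 1 := by
  have ht : z * R.word tw = R.word tw * z := R.comm_of_fix h0 hz
  apply R.eq_one
  intro c hc
  obtain ⟨l, hl⟩ := genB_spec_aux R R.gl ls h c hc
  have h1 : R.word (ex tw xw l) * R.word tw * (R.word (ex tw xw l))⁻¹ = R.word [c] :=
    R.conj_eq h0 (R.isPt_gen c) hl
  have h2 := R.ex_comm ht hx l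
  rw [← h1]
  have c1 : Commute z (R.word (ex tw xw l)) := h2
  have c2 : Commute z (R.word tw) := ht
  exact ((c1.mul_right c2).mul_right c1.inv_right).eq

/-! ### The main statement -/

/-- The data for the centralizer of `x`: `xw` the word of `x`, `u`, `c` the transposition at `p0`, `I`, `Z` positions of
the pattern of `p0` (fixed, moved), `Gs` the certificates, `ws` the words of the covering. -/
structure Data where
  xw : List R.Lt
  c : R.Lt
  u : List R.Lt
  p0 : ℕ
  I : List ℕ
  Z : List ℕ
  Gs : List (Bool × ℕ × List (ℕ × ℕ))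
  good : List ℕ
  ws : List (List (List R.Lt))
  ls : List (List (Fin 3))

/-- the mask of all the points of the certificates and of the list `good` -/
noncomputable def mskG (good : List ℕ) (Gs : List (Bool × ℕ × List (ℕ × ℕ))) : ℕ :=
  List.rec (motive := fun _ => ℕ) (msk good) (fun a _ ih => Nat.lor (mskc a.2.2) ih) Gs

theorem testBit_mskG (good : List ℕ) (Gs : List (Bool × ℕ × List (ℕ × ℕ))) (p : ℕ) :
    (mskG good Gs).testBit p = true ↔ p ∈ good ∨ ∃ a ∈ Gs, ∃ b ∈ a.2.2, b.1 = p := by
  induction Gs with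
  | nil =>
    show (msk good).testBit p = true ↔ _
    rw [testBit_msk]
    simp
  | cons a Gs ih =>
    show (mskc a.2.2 ||| mskG good Gs).testBit p = true ↔ _
    rw [Nat.testBit_or, Bool.or_eq_true, ih, testBit_mskc, List.exists_mem_cons_iff]
    exact or_left_comm

variable {R}

/-- The element `x`. -/
noncomputable def Data.x (D : R.Data) : G := R.word D.xw

/-- The checks. -/
structure Data.Ok (D : R.Data) : Prop where
  hu : chkPt (R.nw D.u) (R.pn D.c) D.p0 = true
  hI : ∀ j ∈ D.I, cf (R.nw D.xw.reverse) (R.nw D.u) (R.nw [D.c]) false j D.p0 = true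
  hZ : ∀ j ∈ D.Z, cf (R.nw D.xw.reverse) (R.nw D.u) (R.nw [D.c]) true j D.p0 = true
  hit : ∀ a ∈ D.Gs, (a.1 = true → a.2.1 ∈ D.I) ∧ (a.1 = false → a.2.1 ∈ D.Z)
  cert : ∀ a ∈ D.Gs, R.chkL (R.nw D.xw.reverse) a.1 a.2.1 a.2.2 = true
  covering : R.Cv D.ws (mskG D.good D.Gs)
  gen : R.genB (D.u ++ D.c :: D.u.reverse) D.xw D.p0 D.ls = true
  comm : ∀ s ∈ D.ws, ∀ w ∈ s, R.word w * R.word D.xw = R.word D.xw * R.word w

/-- **The bound.** -/
theorem Data.Ok.card_le {D : R.Data} (H : D.Ok) :
    Nat.card (Subgroup.centralizer ({D.x} : Set G)) ≤ cnt D.ws * D.good.length := by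
  have hp0 : R.rho (R.word D.u) (R.pn D.c) = D.p0 := by
    rw [R.rho_word]
    exact chkPt_spec (R.wok _) H.hu
  have h0 : R.IsPt (R.tr D.u D.c) D.p0 := R.isPt_tr hp0
  rw [← R.length_TL]
  refine R.card_le _ D.x D.p0 _ _ ?_ ?_ ?_
  · intro h hh
    have hU : R.U.testBit (R.rho h D.p0) = true := R.bit (R.conj h0 h)
    obtain ⟨t, ht, hq⟩ := H.covering _ hU
    rw [testBit_mskG] at hq
    refine ⟨t, ht, ?_⟩
    rw [map_mul, Equiv.Perm.mul_apply]
    rcases hq with hq | ⟨a, ha, b, hb, hq⟩
    · exact hq
    · exfalso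
      obtain ⟨d, hd, h1, h2⟩ := R.chk1_spec (R.chkL_spec (H.cert a ha) b hb)
      have hth : t * h ∈ Subgroup.centralizer ({D.x} : Set G) :=
        Subgroup.mul_mem _ (R.TL_mem (fun s hs w hw =>
          Subgroup.mem_centralizer_singleton_iff.2 (H.comm s hs w hw)) t ht) hh
      have hx : t * h * D.x = D.x * (t * h) := Subgroup.mem_centralizer_singleton_iff.1 hth
      have hq' : R.rho (t * h) D.p0 = b.1 := by
        rw [map_mul, Equiv.Perm.mul_apply]
        exact hq.symm
      have key := R.pat_conj_iff (j := a.2.1) hx h0 hd hq'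
      cases hb' : a.1 with
      | true =>
        exact h1 hb' (key.1 (R.cf_false (H.hI _ ((H.hit a ha).1 hb'))))
      | false =>
        exact R.cf_true (H.hZ _ ((H.hit a ha).2 hb')) (key.2 (h2 hb'))
  · intro h hh
    exact Subgroup.mem_centralizer_singleton_iff.1 hh
  · intro z hz hp
    have e : R.word (D.u ++ D.c :: D.u.reverse) = R.tr D.u D.c := by
      rw [show D.u ++ D.c :: D.u.reverse = D.u ++ ([D.c] ++ D.u.reverse) from rfl, R.word_append,
        R.word_append, R.word_reverse, tr, mul_assoc]
    exact R.eq_one_of_gen H.gen (by rw [e]; exact h0) hz hp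

/-! ### Numbers of fixed points -/

variable (R)

/-- the number of fixed points -/
noncomputable def Fx (g : G) : ℕ := {p : ℕ | R.U.testBit p = true ∧ R.rho g p = p}.ncard

/-- The data used for counting. -/
structure Cnt (k : ℕ) : Prop where
  ok : ∀ l, WOk (2 ^ k) (R.nw l)
  lt : R.U < 2 ^ 2 ^ k
  inv : ∀ (g : G) (p : ℕ), R.U.testBit p = true → R.U.testBit (R.rho g p) = true

variable {R} {k : ℕ}

theorem Fx_conj (C : R.Cnt k) (h g : G) : R.Fx (h * g * h⁻¹) = R.Fx g := by
  symm
  unfold Fx
  refine Set.ncard_congr (fun p _ => R.rho h p) ?_ ?_ ?_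
  · rintro p ⟨hp, hg⟩
    refine ⟨C.inv h p hp, ?_⟩
    have e : (R.rho h)⁻¹ (R.rho h p) = p := (R.rho h).symm_apply_apply p
    rw [map_mul, map_mul, Equiv.Perm.mul_apply, Equiv.Perm.mul_apply, map_inv, e, hg]
  · intro p q _ _ hpq
    exact (R.rho h).injective hpq
  · rintro q ⟨hq, hg⟩
    have e : ∀ r, R.rho h ((R.rho h)⁻¹ r) = r := fun r => (R.rho h).apply_symm_apply r
    refine ⟨R.rho h⁻¹ q, ⟨C.inv _ _ hq, ?_⟩, ?_⟩
    · rw [map_mul, map_mul, Equiv.Perm.mul_apply, Equiv.Perm.mul_apply, map_inv] at hg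
      apply (R.rho h).injective
      rw [map_inv, hg, e]
    · rw [map_inv, e]

theorem Fx_isConj (C : R.Cnt k) {g g' : G} (h : IsConj g g') : R.Fx g = R.Fx g' := by
  obtain ⟨c, rfl⟩ := isConj_iff.1 h
  rw [Fx_conj C]

/-- the mask of the fixed points of a word -/
noncomputable def fxm (R : PR G) (k : ℕ) (l : List R.Lt) : ℕ :=
  seq R.U fun m => seq (moved k (R.nw l)) fun x => Nat.xor m (Nat.land m x)

theorem fxm_eq (l : List R.Lt) : fxm R k l = R.U ^^^ (R.U &&& moved k (R.nw l)) := by
  unfold fxm
  rw [seq_eq, seq_eq]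
  rfl

theorem lt_of_bit (C : R.Cnt k) {p : ℕ} (hp : R.U.testBit p = true) : p < 2 ^ k := by
  by_contra hcon
  push Not at hcon
  have h1 : R.U < 2 ^ p := C.lt.trans_le (Nat.pow_le_pow_right (by norm_num) hcon)
  rw [Nat.testBit_lt_two_pow h1] at hp
  exact absurd hp (by simp)

theorem testBit_fxm (C : R.Cnt k) (l : List R.Lt) (p : ℕ) :
    (fxm R k l).testBit p = true ↔ R.U.testBit p = true ∧ R.rho (R.word l) p = p := by
  rw [fxm_eq, Nat.testBit_xor, Nat.testBit_and]
  by_cases hp : R.U.testBit p = true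
  · rw [hp, Bool.true_and, Bool.true_xor, Bool.not_eq_true', testBit_moved_false (C.ok l) (lt_of_bit C hp),
      R.rho_word]
    exact ⟨fun h => ⟨rfl, h⟩, fun h => h.2⟩
  · rw [Bool.not_eq_true] at hp
    rw [hp, Bool.false_and, Bool.false_xor]
    exact ⟨fun h => absurd h (by simp), fun h => absurd h.1 (by simp)⟩

theorem fxm_lt (C : R.Cnt k) (l : List R.Lt) : fxm R k l < 2 ^ 2 ^ k := by
  rw [fxm_eq]
  exact Nat.xor_lt_two_pow C.lt (lt_of_le_of_lt Nat.and_le_left C.lt)

theorem Fx_word (C : R.Cnt k) (l : List R.Lt) : R.Fx (R.word l) = Lib.PermNetOrbit.pc k (fxm R k l) := by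
  rw [Lib.PermNetOrbit.pc_eq k _ (fxm_lt C l), Fx, ← Set.ncard_coe_finset]
  congr 1
  ext p
  rw [Finset.mem_coe, Lib.PermNetOrbit.mem_bits, testBit_fxm C]
  constructor
  · rintro ⟨h1, h2⟩
    exact ⟨lt_of_bit C h1, h1, h2⟩
  · rintro ⟨-, h1, h2⟩
    exact ⟨h1, h2⟩

/-- the kernel check: the numbers of fixed points of a word and of its square -/
noncomputable def chk (R : PR G) (k : ℕ) (q : List R.Lt × ℕ × ℕ) : Bool :=
  Bool.and (Nat.beq (Lib.PermNetOrbit.pc k (fxm R k q.1)) q.2.1)
    (Nat.beq (Lib.PermNetOrbit.pc k (fxm R k (q.1 ++ q.1))) q.2.2)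

theorem chk_spec (C : R.Cnt k) {q : List R.Lt × ℕ × ℕ} (h : chk R k q = true) :
    R.Fx (R.word q.1) = q.2.1 ∧ R.Fx (R.word q.1 * R.word q.1) = q.2.2 := by
  unfold chk at h
  have h' := Bool.and_eq_true_iff.1 h
  rw [← R.word_append, Fx_word C, Fx_word C]
  exact ⟨Nat.eq_of_beq_eq_true h'.1, Nat.eq_of_beq_eq_true h'.2⟩

/-- the kernel check of a list of entries -/
noncomputable def chks (R : PR G) (k : ℕ) (l : List (List R.Lt × ℕ × ℕ)) : Bool :=
  List.rec (motive := fun _ => Bool) true (fun q _ ih => Bool.and (chk R k q) ih) l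

theorem chks_spec {l : List (List R.Lt × ℕ × ℕ)} (h : chks R k l = true) : ∀ q ∈ l, chk R k q = true := by
  induction l with
  | nil => intro q hq; exact absurd hq (by simp)
  | cons a l ih =>
    have h' : (chk R k a && chks R k l) = true := h
    rw [Bool.and_eq_true] at h'
    intro q hq
    rcases List.mem_cons.1 hq with rfl | hq
    · exact h'.1
    · exact ih h'.2 q hq

/-- **Classes separated by the numbers of fixed points.** -/
theorem card_le_conjClasses [Finite G] (C : R.Cnt k) (tab : List (List R.Lt × ℕ × ℕ))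
    (h : ∀ q ∈ tab, chk R k q = true) (hnd : (tab.map fun q => q.2).Nodup) :
    tab.length ≤ Nat.card (ConjClasses G) := by
  have key : ∀ q ∈ tab, ∀ q' ∈ tab, IsConj (R.word q.1) (R.word q'.1) → q.2 = q'.2 := by
    intro q hq q' hq' hc
    obtain ⟨h1, h2⟩ := chk_spec C (h q hq)
    obtain ⟨h3, h4⟩ := chk_spec C (h q' hq')
    have h5 := Fx_isConj C hc
    obtain ⟨c, hc⟩ := isConj_iff.1 hc
    have h6 : IsConj (R.word q.1 * R.word q.1) (R.word q'.1 * R.word q'.1) := isConj_iff.2 ⟨c, by rw [← hc]; group⟩
    have h7 := Fx_isConj C h6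
    rw [h1, h3] at h5
    rw [h2, h4] at h7
    exact Prod.ext h5 h7
  have h := H593.IMRank.card_le_conjClasses (G := G) (fun i : Fin tab.length => R.word (tab.get i).1)
    (fun i j hij => by
      have h1 := key _ (List.get_mem tab i) _ (List.get_mem tab j) hij
      have h2 := List.nodup_iff_injective_get.1 hnd
      have hi : i.val < (tab.map fun q => q.2).length := by rw [List.length_map]; exact i.2
      have hj : j.val < (tab.map fun q => q.2).length := by rw [List.length_map]; exact j.2
      have h3 : (tab.map fun q => q.2).get ⟨i.val, hi⟩ = (tab.map fun q => q.2).get ⟨j.val, hj⟩ := by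
        simp only [List.get_eq_getElem, List.getElem_map]
        exact h1
      have h4 := h2 h3
      exact Fin.ext (Fin.mk.inj h4))
  rwa [Fintype.card_fin] at h

end PR

end Cfsg.Agent.H153.Dl
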