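import Cfsg.Agent.H153.Dl.PR
import Cfsg.Agent.H843.Pat

/-!
# `Fi24` on its 306936 transpositions, for `H153.Dl.PR` (helper153)
-/

set_option autoImplicit false
set_option maxRecDepth 100000
set_option exponentiation.threshold 600000
set_option linter.constructorNameAsVariable false

namespace Cfsg.Agent.H153.Dl

open Cfsg Cfsg.Agent.Lib.PermNet Cfsg.Agent.Lib.PermNetPt Cfsg.Agent.Fischer.Fi24RepDef Cfsg.Agent.Fischer.Fi24Rep
open Cfsg.Agent.Fischer.Fi24RepOrb (UG orbG)
open Cfsg.Agent.Fischer.Fi24Spider (word_append word_cons word_nil)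
open Cfsg.Agent.KFacts.FiTF.Pts Cfsg.Agent.KFacts.FiTF.FixMask
open Cfsg.Spor.Fi24 (Gen)

theorem word_one (c : Gen) : word [c] = gen c := by rw [word_cons, word_nil, mul_one]

/-- `Fi24` on its transpositions. -/
noncomputable def R24 : PR Spor.Fi24 where
  Lt := Gen
  N := 327680
  nw l := nw l false
  wok l := Fischer.Fi24RepDef.wok l false
  word := word
  word_nil := word_nil
  word_append := word_append
  word_reverse := word_reverse
  rho := rho
  rho_word := rho_word
  IsPt := IsPt
  conj h g := h.conj g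
  inj h h' := h.inj h'
  gl := H843.Pat.gl
  gd := H843.Pat.gd
  pn := pn
  isPt_gen c := by rw [word_one]; exact isPt_gen c
  U := UG
  bit h := bit h
  eq_one g h := eq_one_of_comm fun c => by
    have h1 := H843.Pat.gens_all (fun c => g * word [c] = word [c] * g) h c
    rwa [word_one] at h1

theorem cnt24 : R24.Cnt 19 where
  ok l := Fischer.Fi24RepLib.WOk.mono (show 327680 ≤ 2 ^ 19 by norm_num) (R24.wok l)
  lt := by
    show UG < 2 ^ 2 ^ 19
    decide +kernel
  inv := by
    intro g p hp
    have h1 : p ∈ {p : ℕ | ∃ x, rho x 0 = p} := by rw [orbG]; exact hp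
    obtain ⟨x, rfl⟩ := h1
    have h2 : rho g (rho x 0) ∈ {p : ℕ | ∃ x, rho x 0 = p} :=
      ⟨g * x, by rw [map_mul, Equiv.Perm.mul_apply]⟩
    rw [orbG] at h2
    exact h2

end Cfsg.Agent.H153.Dl
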