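import Cfsg.Agent.H153.Dl.E22.D
import Cfsg.Agent.H153.Dl.F22.D
import Cfsg.Agent.H153.Dl.K22
import Cfsg.Agent.H454.Dl.Crit
import Cfsg.Agent.H680.Dl.Hall
import Cfsg.Agent.H870.IMFiTwentyTwo
import Cfsg.Agent.S2079
import Cfsg.Agent.OddHalf.D4.Spor.Fi22

/-!
# The row of `Fi22` (S4769; helper153, task DL-SPOR-5)
-/

set_option autoImplicit false
set_option maxRecDepth 100000
set_option linter.constructorNameAsVariable false

namespace Cfsg.Agent.H153.Dl

open Cfsg Cfsg.Agent.Lib.PermNetPt Cfsg.Agent.H246.Dl Cfsg.Agent.H454.DlCrit Cfsg.Agent.H680.Dl Subgroup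

/-! ### Generalities -/

/-- An element permuting at most six elements: one of its first six powers fixes a member. -/
theorem exists_pow_comm {G : Type*} [Group G] {x a : G} {X : Set G} (hX : X.Finite) (h6 : X.ncard ≤ 6) (ha : a ∈ X)
    (hinv : ∀ t ∈ X, x * t * x⁻¹ ∈ X) : ∃ m, 1 ≤ m ∧ m ≤ 6 ∧ x ^ m * a = a * x ^ m := by
  have hp : ∀ k : ℕ, x ^ k * a * (x ^ k)⁻¹ ∈ X := by
    intro k
    induction k with
    | zero => simpa using ha
    | succ k ih =>
      have h1 := hinv _ ih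
      have e : x ^ (k + 1) * a * (x ^ (k + 1))⁻¹ = x * (x ^ k * a * (x ^ k)⁻¹) * x⁻¹ := by
        rw [pow_succ', mul_inv_rev]; group
      rwa [e]
  have := hX.to_subtype
  obtain ⟨i, j, hij, he⟩ : ∃ i j : Fin 7, i ≠ j ∧ (⟨_, hp i⟩ : X) = ⟨_, hp j⟩ := by
    by_contra hcon
    push Not at hcon
    have hinj : Function.Injective (fun k : Fin 7 => (⟨_, hp k⟩ : X)) := by
      intro i j h
      by_contra hne
      exact hcon i j hne h
    have h7 := Nat.card_le_card_of_injective _ hinj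
    rw [Nat.card_eq_fintype_card, Fintype.card_fin] at h7
    have h8 : Nat.card {t // t ∈ X} ≤ 6 := h6
    omega
  have key : ∀ i j : ℕ, i < j → j < 7 → x ^ i * a * (x ^ i)⁻¹ = x ^ j * a * (x ^ j)⁻¹ →
      ∃ m, 1 ≤ m ∧ m ≤ 6 ∧ x ^ m * a = a * x ^ m := by
    intro i j h1 h2 h
    refine ⟨j - i, by omega, by omega, ?_⟩
    have e : x ^ j = x ^ i * x ^ (j - i) := by rw [← pow_add]; congr 1; omega
    rw [e] at h
    calc x ^ (j - i) * a = (x ^ i)⁻¹ * (x ^ i * x ^ (j - i) * a * (x ^ i * x ^ (j - i))⁻¹) * x ^ i * x ^ (j - i) := by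
          group
      _ = (x ^ i)⁻¹ * (x ^ i * a * (x ^ i)⁻¹) * x ^ i * x ^ (j - i) := by rw [h]
      _ = a * x ^ (j - i) := by group
  have he' : x ^ (i : ℕ) * a * (x ^ (i : ℕ))⁻¹ = x ^ (j : ℕ) * a * (x ^ (j : ℕ))⁻¹ := congrArg Subtype.val he
  rcases lt_or_gt_of_ne (fun h : (i : ℕ) = j => hij (Fin.ext h)) with h | h
  · exact key i j h j.2 he'
  · exact key j i h i.2 he'.symm

theorem three_of_pow {G : Type*} [Group G] {x a : G} (h9 : x ^ 9 = 1) {m : ℕ} (h1 : 1 ≤ m) (h6 : m ≤ 6)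
    (h : x ^ m * a = a * x ^ m) : x ^ 3 * a = a * x ^ 3 := by
  have hc : Commute (x ^ m) a := h
  have key : ∀ k : ℕ, (x ^ m) ^ k = x ^ 3 → x ^ 3 * a = a * x ^ 3 := by
    intro k hk
    rw [← hk]
    exact (hc.pow_left k).eq
  have red : ∀ k : ℕ, x ^ (9 * k + 3) = x ^ 3 := by
    intro k
    rw [pow_add, pow_mul, h9, one_pow, one_mul]
  interval_cases m
  · exact key 3 (by rw [pow_one])
  · exact key 6 (by rw [← pow_mul]; exact red 1)
  · exact key 1 (by rw [pow_one])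
  · exact key 3 (by rw [← pow_mul]; exact red 1)
  · exact key 6 (by rw [← pow_mul]; exact red 3)
  · exact key 2 (by rw [← pow_mul]; exact red 1)

theorem exists_pow_orderOf {G : Type*} [Group G] {p n : ℕ} (hp : p.Prime) {x : G} (h : x ^ p ^ n = 1) :
    ∃ j : ℕ, orderOf x = p ^ j := by
  obtain ⟨k, -, hk⟩ := (Nat.dvd_prime_pow hp).1 (orderOf_dvd_of_pow_eq_one h)
  exact ⟨k, hk⟩

/-- A group with a central element of order 9 and a commuting element of order 3 outside. -/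
theorem dvd_card_centralizer {G : Type*} [Group G] [Finite G] {x y : G} (hx : orderOf x = 9) (hy : y ^ 3 = 1)
    (hxy : y * x = x * y) (hn : y ∉ zpowers x) : 27 ∣ Nat.card (centralizer ({x} : Set G)) := by
  set C := centralizer ({x} : Set G) with hC
  have xC : x ∈ C := by rw [hC, mem_centralizer_singleton_iff]
  have yC : y ∈ C := by rw [hC, mem_centralizer_singleton_iff]; exact hxy
  let x' : C := ⟨x, xC⟩
  let y' : C := ⟨y, yC⟩
  have hN : (zpowers x').Normal := by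
    constructor
    rintro _ ⟨k, rfl⟩ g
    have h1 : g * x' = x' * g := Subtype.ext (mem_centralizer_singleton_iff.1 g.2)
    have h2 : g * x' ^ k = x' ^ k * g := ((show Commute g x' from h1).zpow_right k).eq
    show g * x' ^ k * g⁻¹ ∈ _
    rw [h2, mul_inv_cancel_right]
    exact ⟨k, rfl⟩
  have hcN : Nat.card (zpowers x') = 9 := by
    rw [Nat.card_zpowers, Subgroup.orderOf_mk, hx]
  have hq : orderOf (QuotientGroup.mk' (zpowers x') y') = 3 := by
    apply orderOf_eq_prime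
    · rw [← map_pow]
      have : y' ^ 3 = 1 := Subtype.ext hy
      rw [this, map_one]
    · intro h
      rw [← MonoidHom.mem_ker, QuotientGroup.ker_mk'] at h
      obtain ⟨k, hk⟩ := h
      exact hn ⟨k, congrArg Subtype.val hk⟩
  have h3 : 3 ∣ (zpowers x').index := by
    rw [← hq]
    exact orderOf_dvd_natCard _
  rw [← Subgroup.card_mul_index (zpowers x'), hcN]
  exact mul_dvd_mul (dvd_refl 9) h3

/-! ### The transpositions and the points -/

namespace Fi22Row

open Cfsg.Agent.Fischer.Fi22Perm Cfsg.Agent.Fischer.Fi22Sub3510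
open Cfsg.Agent.R08.AutT (T)
open Cfsg.Agent.StdFi22.MainFi22 (bas)
open Cfsg.Agent.OddHalf.D4.Spor.Fi22 (inv_cases comm_tri exists_ncomm comm_w)
open Cfsg.Agent.R01.FiFusion (Tri)
open Cfsg.Agent.R01.FiFacts (Hex)
open Cfsg.Spor.Fi22 (Gen)

theorem isPt_mem {d : Spor.Fi22} {p : ℕ} (h : IsPt22 d p) : d ∈ T ∧ p < 3510 := by
  obtain ⟨g, rfl, rfl⟩ := h
  exact ⟨isConj_iff.2 ⟨g, rfl⟩, main.2.2 g⟩

theorem exists_pt {d : Spor.Fi22} (h : d ∈ T) : ∃ p, IsPt22 d p := by
  obtain ⟨g, hg⟩ := isConj_iff.1 (show IsConj (g22 .a) d from h)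
  exact ⟨_, g, rfl, hg⟩

/-- A transposition has one point. -/
theorem pt_unique {d : Spor.Fi22} {p q : ℕ} (hp : IsPt22 d p) (hq : IsPt22 d q) : p = q := by
  have hex : ∀ p : Fin 3510, ∃ d : T, IsPt22 d p := by
    intro p
    obtain ⟨g, hg⟩ := transitive p p.2
    exact ⟨⟨g * g22 .a * g⁻¹, (isPt_mem ⟨g, hg, rfl⟩).1⟩, g, hg, rfl⟩
  choose f hf using hex
  have hs : Function.Surjective f := by
    intro d
    obtain ⟨p, hp⟩ := exists_pt d.2
    refine ⟨⟨p, (isPt_mem hp).2⟩, Subtype.ext ((hf _).inj hp)⟩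
  have hb := hs.bijective_of_nat_card_le (by
    rw [Nat.card_eq_fintype_card, Fintype.card_fin]
    exact (Cfsg.Agent.R01.Fi22Facts.ncard_T).ge)
  have h1 : (⟨p, (isPt_mem hp).2⟩ : Fin 3510) = ⟨q, (isPt_mem hq).2⟩ := by
    apply hb.1
    exact Subtype.ext (((hf _).inj hp).trans ((hf _).inj hq).symm)
  exact congrArg Fin.val h1

/-- An element commuting with a transposition has a fixed point. -/
theorem Fx_ne_zero {x d : Spor.Fi22} (hd : d ∈ T) (h : x * d = d * x) : R22.Fx x ≠ 0 := by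
  obtain ⟨p, hp⟩ := exists_pt hd
  have h1 : IsPt22 d (φ x p) := by
    have h2 := R22.conj hp x
    rwa [h, mul_inv_cancel_right] at h2
  have h2 : φ x p = p := pt_unique h1 hp
  unfold PR.Fx
  intro h3
  have hfin : {p : ℕ | R22.U.testBit p = true ∧ R22.rho x p = p}.Finite := by
    refine (Set.finite_lt_nat 4096).subset ?_
    rintro q ⟨hq, -⟩
    exact PR.lt_of_bit cnt22 hq
  rw [Set.ncard_eq_zero hfin] at h3
  have h4 : p ∈ {p : ℕ | R22.U.testBit p = true ∧ R22.rho x p = p} := ⟨R22.bit hp, h2⟩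
  rw [h3] at h4
  exact h4

/-- The transpositions commuting with the transpositions commuting with `w`. -/
def Xs (w : Spor.Fi22) : Set Spor.Fi22 := {t | t ∈ T ∧ ∀ s ∈ T, s * w = w * s → t * s = s * t}

theorem Xs_inv {w x : Spor.Fi22} (hxw : x * w = w * x) : ∀ t ∈ Xs w, x * t * x⁻¹ ∈ Xs w := by
  rintro t ⟨ht, h⟩
  refine ⟨bas.conjT x ht, fun s hs hsw => ?_⟩
  have h1 : x⁻¹ * s * x⁻¹⁻¹ ∈ T := bas.conjT x⁻¹ hs
  rw [inv_inv] at h1
  have hxw' : x⁻¹ * w = w * x⁻¹ := by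
    calc x⁻¹ * w = x⁻¹ * (w * x) * x⁻¹ := by group
      _ = x⁻¹ * (x * w) * x⁻¹ := by rw [hxw]
      _ = w * x⁻¹ := by group
  have h2 := h _ h1 (by
    calc x⁻¹ * s * x * w = x⁻¹ * s * (x * w) := by group
      _ = x⁻¹ * (s * w) * x := by rw [hxw]; group
      _ = (x⁻¹ * w) * s * x := by rw [hsw]; group
      _ = w * (x⁻¹ * s * x) := by rw [hxw']; group)
  calc x * t * x⁻¹ * s = x * (t * (x⁻¹ * s * x)) * x⁻¹ := by group
    _ = x * ((x⁻¹ * s * x) * t) * x⁻¹ := by rw [h2]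
    _ = s * (x * t * x⁻¹) := by group

theorem Xs_sub {a b c : Spor.Fi22} (ht : Tri T a b c) :
    a ∈ Xs (a * b * c) ∧ (Xs (a * b * c)).ncard ≤ 6 ∧ (Xs (a * b * c)).Finite := by
  obtain ⟨a', b', c', H⟩ := bas.tf.hex a b c ht
  have hsub : Xs (a * b * c) ⊆ {a, b, c, a', b', c'} := by
    rintro t ⟨htT, h⟩
    by_contra hcon
    simp only [Set.mem_insert_iff, Set.mem_singleton_iff, not_or] at hcon
    obtain ⟨h1, h2, h3, h4, h5, h6⟩ := hcon
    have aw : a * (a * b * c) = a * b * c * a := comm_w bas ht rfl ht.cxy ht.cxw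
    have bw : b * (a * b * c) = a * b * c * b := comm_w bas ht ht.cxy.symm rfl ht.cyw
    have cw : c * (a * b * c) = a * b * c * c := comm_w bas ht ht.cxw.symm ht.cyw.symm rfl
    obtain ⟨s, hs, sa, sb, sc, hne⟩ := exists_ncomm bas H htT (h a ht.mx aw) (h b ht.my bw) (h c ht.mw cw)
      h1 h2 h3 h4 h5 h6
    exact hne (h s hs (comm_w bas ht sa sb sc)).symm
  have hfin : ({a, b, c, a', b', c'} : Set Spor.Fi22).Finite := Set.toFinite _
  refine ⟨⟨ht.mx, fun s hs h => (comm_tri bas ht hs h).1.symm⟩, ?_, hfin.subset hsub⟩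
  refine (Set.ncard_le_ncard hsub hfin).trans ?_
  refine (Set.ncard_insert_le _ _).trans ?_
  have h1 := Set.ncard_insert_le b ({c, a', b', c'} : Set Spor.Fi22)
  have h2 := Set.ncard_insert_le c ({a', b', c'} : Set Spor.Fi22)
  have h3 := Set.ncard_insert_le a' ({b', c'} : Set Spor.Fi22)
  have h4 := Set.ncard_insert_le b' ({c'} : Set Spor.Fi22)
  rw [Set.ncard_singleton] at h4
  omega

/-- **An element of order 9 whose cube commutes with no transposition commutes with no involution.** -/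
theorem no_inv {x w : Spor.Fi22} (h9 : x ^ 9 = 1) (h0 : ∀ d ∈ T, x ^ 3 * d ≠ d * x ^ 3) (hw : w * w = 1) (hw1 : w ≠ 1)
    (hxw : x * w = w * x) : False := by
  rcases inv_cases hw hw1 with h | ⟨a, ha, b, hb, hab, cab, rfl⟩ | ⟨a, b, c, ht, rfl⟩
  · have hc : Commute x w := hxw
    exact h0 w h (hc.pow_left 3).eq
  · have C := Cfsg.Agent.LThreeFi22.Inst.ctx (MulEquiv.refl Spor.Fi22)
    have hT : ∀ t ∈ T, t ∈ Cfsg.Agent.KFacts.FiTT.TK (MulEquiv.refl Spor.Fi22) := fun t ht =>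
      (Cfsg.Agent.LThreeFi22.Inst.mem_TK _).2 ht
    rcases C.cz a (hT a ha) b (hT b hb) hab cab x hxw with ⟨h1, -⟩ | ⟨h1, h2⟩
    · have hc : Commute x a := h1
      exact h0 a ha (hc.pow_left 3).eq
    · have h3 : x ^ 2 * a = a * x ^ 2 := by
        have h4 : x * (x * a * x⁻¹) * x⁻¹ = a := by rw [h1, h2]
        calc x ^ 2 * a = x * (x * a * x⁻¹) * x⁻¹ * x ^ 2 := by rw [pow_two]; group
          _ = a * x ^ 2 := by rw [h4]
      exact h0 a ha (three_of_pow h9 (by norm_num) (by norm_num) h3)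
  · obtain ⟨h1, h2, h3⟩ := Xs_sub ht
    obtain ⟨m, hm1, hm6, hm⟩ := exists_pow_comm h3 h2 h1 (Xs_inv hxw)
    exact h0 a ht.mx (three_of_pow h9 hm1 hm6 hm)

theorem card : Nat.card Spor.Fi22 = 64561751654400 := Fischer.Fi22Order.card_fi22

theorem out : Nat.card (OutQ Spor.Fi22) ≤ 2 := (S2079.result).le

/-! ### The prime 2 -/

theorem e22_pow : R22.chkEq (PR.rep 16 E22.xw) [] = true := by decide +kernel

/-- **The row of `Fi22`, `p = 2`.** -/
theorem row_two : Row 2 Spor.Fi22 := by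
  have := fin22
  have hf : Fact (Nat.Prime 2) := ⟨Nat.prime_two⟩
  have h16 : (E22.D.x) ^ 2 ^ 4 = 1 :=
    (R22.word_rep 16 E22.xw).symm.trans ((R22.word_eq_of e22_pow).trans R22.word_nil)
  refine Row.of_le (d := 4) (m := 4) ((dlLe_of_card' (a := 17) ?_).2.1 (by norm_num))
    (Many.of_count_le (exists_pow_orderOf Nat.prime_two h16) out K22.le_k ?_) le_rfl
  · rw [card]; norm_num
  · have h1 : Nat.card (centralizer ({E22.D.x} : Set Spor.Fi22)) ≤ 32 := E22.card_le
    omega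

/-! ### The prime 3 -/

theorem f22_pow : R22.chkEq (PR.rep 9 F22.xw) [] = true := by decide +kernel

theorem f22_y : R22.chkEq (PR.rep 3 F22.y0a) [] = true := by decide +kernel

theorem f22_fx : PR.chkP R22 12 1 3 (F22.xw, 0, 0) = true := by decide +kernel

theorem pt_y : chkPt (R22.nw F22.y0a) 502 2213 = true := by decide +kernel

theorem pt_x3 : chkPt (R22.nw (PR.rep 3 F22.xw)) 502 2832 = true := by decide +kernel

theorem pt_x6 : chkPt (R22.nw (PR.rep 6 F22.xw)) 502 1420 = true := by decide +kernel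

theorem x_pow : F22.D.x ^ 9 = 1 :=
  (R22.word_rep 9 F22.xw).symm.trans ((R22.word_eq_of f22_pow).trans R22.word_nil)

theorem x_three : ∀ d ∈ T, F22.D.x ^ 3 * d ≠ d * F22.D.x ^ 3 := by
  intro d hd h
  have h1 := PR.chkP_spec cnt22 f22_fx
  exact Fx_ne_zero hd h (congrArg Prod.snd h1)

theorem x_ne : F22.D.x ^ 3 ≠ 1 := by
  intro h
  have ha : g22 .a ∈ T := (isPt_mem (isPt22_gen .a)).1
  exact x_three _ ha (by rw [h, one_mul, mul_one])

theorem order_x : orderOf F22.D.x = 9 := by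
  have hf : Fact (Nat.Prime 3) := ⟨Nat.prime_three⟩
  exact orderOf_eq_prime_pow (p := 3) (n := 1) (by rw [pow_one]; exact x_ne) x_pow

/-- an element of order 3 commuting with `x` -/
noncomputable def y : Spor.Fi22 := R22.word F22.y0a

theorem y_pow : y ^ 3 = 1 :=
  (R22.word_rep 3 F22.y0a).symm.trans ((R22.word_eq_of f22_y).trans R22.word_nil)

theorem y_comm : y * F22.D.x = F22.D.x * y := R22.comm_of F22.comm_y0a

theorem rho_pt {l : List R22.Lt} {g : Spor.Fi22} {a b : ℕ} (hg : R22.word l = g)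
    (h : chkPt (R22.nw l) a b = true) : R22.rho g a = b := by
  have h1 := chkPt_spec (R22.wok l) h
  rw [← hg, R22.rho_word]
  exact h1

theorem rho_y : R22.rho y 502 = 2213 := rho_pt rfl pt_y

theorem rho_x3 : R22.rho (F22.D.x ^ 3) 502 = 2832 := rho_pt (R22.word_rep 3 F22.xw) pt_x3

theorem rho_x6 : R22.rho (F22.D.x ^ 6) 502 = 1420 := rho_pt (R22.word_rep 6 F22.xw) pt_x6

theorem y_notMem : y ∉ zpowers F22.D.x := by
  intro h
  have hx := order_x
  obtain ⟨k, hk, hk'⟩ : ∃ k, k < 9 ∧ F22.D.x ^ k = y := by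
    obtain ⟨k, hk⟩ := (mem_powers_iff_mem_zpowers.2 h)
    refine ⟨k % 9, Nat.mod_lt _ (by norm_num), ?_⟩
    have h1 := pow_mod_orderOf F22.D.x k
    rw [hx] at h1
    exact h1.trans hk
  have h3 : F22.D.x ^ (k * 3) = 1 := by rw [pow_mul, hk', y_pow]
  have h4 := orderOf_dvd_of_pow_eq_one h3
  rw [hx] at h4
  have h5 : k = 0 ∨ k = 3 ∨ k = 6 := by omega
  have h6 := rho_y
  rcases h5 with rfl | rfl | rfl
  · rw [← hk', pow_zero, map_one, Equiv.Perm.one_apply] at h6
    norm_num at h6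
  · rw [← hk', rho_x3] at h6
    norm_num at h6
  · rw [← hk', rho_x6] at h6
    norm_num at h6

theorem card_x : Nat.card (centralizer ({F22.D.x} : Set Spor.Fi22)) = 27 := by
  have := fin22
  have h1 : 27 ∣ Nat.card (centralizer ({F22.D.x} : Set Spor.Fi22)) :=
    dvd_card_centralizer order_x y_pow y_comm y_notMem
  have h2 : Nat.card (centralizer ({F22.D.x} : Set Spor.Fi22)) ≤ 54 := F22.card_le
  have h3 : ¬ 2 ∣ Nat.card (centralizer ({F22.D.x} : Set Spor.Fi22)) := by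
    intro h
    have hf : Fact (Nat.Prime 2) := ⟨Nat.prime_two⟩
    obtain ⟨w, hw⟩ := exists_prime_orderOf_dvd_card' 2 h
    refine no_inv (w := w) x_pow x_three ?_ ?_ ?_
    · have h4 : (w : Spor.Fi22) ^ 2 = 1 := by
        rw [← Subgroup.coe_pow, ← hw, pow_orderOf_eq_one, Subgroup.coe_one]
      rw [← pow_two, h4]
    · intro h4
      have h5 : w = 1 := Subtype.ext h4
      rw [h5, orderOf_one] at hw
      norm_num at hw
    · exact (mem_centralizer_singleton_iff.1 w.2).symm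
  have h4 : 0 < Nat.card (centralizer ({F22.D.x} : Set Spor.Fi22)) := Nat.card_pos
  omega

/-- **The row of `Fi22`, `p = 3`.** -/
theorem row_three : Row 3 Spor.Fi22 := by
  have := fin22
  have hf : Fact (Nat.Prime 3) := ⟨Nat.prime_three⟩
  refine Row.of_le (d := 3) (m := 3) ((dlLe_of_card' (a := 9) ?_).1 (by norm_num))
    (Many.of_count_le ⟨2, by rw [order_x]; norm_num⟩ out K22.le_k ?_) le_rfl
  · rw [card]; norm_num
  · rw [card_x]
    norm_num

end Fi22Row

open Fi22Row in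
/-- **The row of `Fi22`** (S4769). -/
theorem row_fi22 {S : Type*} [Group S] [Finite S] (h : Spor.IsoFi22 S) {p : ℕ} (hp : p.Prime) (hd : p ∣ Nat.card S) :
    Row p S := by
  have hf : Fact p.Prime := ⟨hp⟩
  have him : H33.IM p S := H870.IMFi22.im_fi22 h hd
  obtain ⟨e⟩ := h
  have hc : Nat.card S = 64561751654400 := (Nat.card_congr e.toEquiv).trans card
  rw [hc] at hd
  by_cases h2 : p = 2
  · subst h2; exact Row.of_equiv e row_two
  by_cases h3 : p = 3
  · subst h3; exact Row.of_equiv e row_three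
  refine Row.of_im (dlLe_one (a := 2) le_rfl ?_) him
  rw [hc]
  intro h4
  have hd' : p ∣ 2 ^ 17 * (3 ^ 9 * (5 ^ 2 * (7 * (11 * 13)))) := by
    rw [show 2 ^ 17 * (3 ^ 9 * (5 ^ 2 * (7 * (11 * 13)))) = 64561751654400 by norm_num]
    exact hd
  have key : p = 5 ∨ p = 7 ∨ p = 11 ∨ p = 13 := by
    rcases hp.dvd_mul.1 hd' with h | h
    · exact absurd ((Nat.prime_dvd_prime_iff_eq hp Nat.prime_two).1 (hp.dvd_of_dvd_pow h)) h2
    rcases hp.dvd_mul.1 h with h | h
    · exact absurd ((Nat.prime_dvd_prime_iff_eq hp Nat.prime_three).1 (hp.dvd_of_dvd_pow h)) h3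
    rcases hp.dvd_mul.1 h with h | h
    · exact Or.inl ((Nat.prime_dvd_prime_iff_eq hp (by norm_num)).1 (hp.dvd_of_dvd_pow h))
    rcases hp.dvd_mul.1 h with h | h
    · exact Or.inr (Or.inl ((Nat.prime_dvd_prime_iff_eq hp (by norm_num)).1 h))
    rcases hp.dvd_mul.1 h with h | h
    · exact Or.inr (Or.inr (Or.inl ((Nat.prime_dvd_prime_iff_eq hp (by norm_num)).1 h)))
    · exact Or.inr (Or.inr (Or.inr ((Nat.prime_dvd_prime_iff_eq hp (by norm_num)).1 h)))
  rcases key with rfl | rfl | rfl | rfl <;> norm_num at h4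

end Cfsg.Agent.H153.Dl
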