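import Cfsg.Agent.H153.Dl.C23.D
import Cfsg.Agent.H153.Dl.D23.D
import Cfsg.Agent.H454.Dl.Crit
import Cfsg.Agent.H680.Dl.Hall
import Cfsg.Agent.H870.IMFiTwentyThree
import Cfsg.Agent.S2080

/-!
# The row of `Fi23` (S4769; helper153, task DL-SPOR-5)
-/

set_option autoImplicit false
set_option maxRecDepth 100000
set_option linter.constructorNameAsVariable false

namespace Cfsg.Agent.H153.Dl

open Cfsg Cfsg.Agent.H246.Dl Cfsg.Agent.H454.DlCrit Cfsg.Agent.H680.Dl Subgroup

namespace Fi23Row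

theorem card : Nat.card Spor.Fi23 = 4089470473293004800 := Cfsg.Agent.LThreeFi23.card_G

theorem fin23 : Finite Spor.Fi23 := Nat.finite_of_card_ne_zero (by rw [card]; norm_num)

theorem out : Nat.card (OutQ Spor.Fi23) ≤ 1 := (S2080.result).le

theorem c23_pow : R23.chkEq (PR.rep 16 C23.xw) [] = true := by decide +kernel

theorem d23_pow : R23.chkEq (PR.rep 27 D23.xw) [] = true := by decide +kernel

/-- **The row of `Fi23`, `p = 2`.** -/
theorem row_two : Row 2 Spor.Fi23 := by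
  have := fin23
  have hf : Fact (Nat.Prime 2) := ⟨Nat.prime_two⟩
  have h16 : C23.D.x ^ 2 ^ 4 = 1 :=
    (R23.word_rep 16 C23.xw).symm.trans ((R23.word_eq_of c23_pow).trans R23.word_nil)
  have hj : ∃ j : ℕ, orderOf C23.D.x = 2 ^ j := by
    obtain ⟨k, -, hk⟩ := (Nat.dvd_prime_pow Nat.prime_two).1 (orderOf_dvd_of_pow_eq_one h16)
    exact ⟨k, hk⟩
  refine Row.of_le (d := 4) (m := 4) ((dlLe_of_card' (a := 18) ?_).2.1 (by norm_num))
    (Many.of_count_le hj out Cfsg.Agent.H870.Fi23Fix.fifty_le ?_) le_rfl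
  · rw [card]; norm_num
  · have h1 : Nat.card (centralizer ({C23.D.x} : Set Spor.Fi23)) ≤ 32 := C23.card_le
    omega

/-- **The row of `Fi23`, `p = 3`.** -/
theorem row_three : Row 3 Spor.Fi23 := by
  have := fin23
  have hf : Fact (Nat.Prime 3) := ⟨Nat.prime_three⟩
  have h27 : D23.D.x ^ 3 ^ 3 = 1 :=
    (R23.word_rep 27 D23.xw).symm.trans ((R23.word_eq_of d23_pow).trans R23.word_nil)
  have hj : ∃ j : ℕ, orderOf D23.D.x = 3 ^ j := by
    obtain ⟨k, -, hk⟩ := (Nat.dvd_prime_pow Nat.prime_three).1 (orderOf_dvd_of_pow_eq_one h27)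
    exact ⟨k, hk⟩
  refine Row.of_le (d := 4) (m := 4) ((dlLe_of_card' (a := 13) ?_).2.1 (by norm_num))
    (Many.of_count_le hj out Cfsg.Agent.H870.Fi23Fix.fifty_le ?_) le_rfl
  · rw [card]; norm_num
  · have h1 : Nat.card (centralizer ({D23.D.x} : Set Spor.Fi23)) ≤ 27 := D23.card_le
    omega

end Fi23Row

open Fi23Row in
/-- **The row of `Fi23`** (S4769). -/
theorem row_fi23 {S : Type*} [Group S] [Finite S] (h : Spor.IsoFi23 S) {p : ℕ} (hp : p.Prime) (hd : p ∣ Nat.card S) :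
    Row p S := by
  have hf : Fact p.Prime := ⟨hp⟩
  have him : H33.IM p S := H870.IMFi23.im_fi23 h hd
  obtain ⟨e⟩ := h
  have hc : Nat.card S = 4089470473293004800 := (Nat.card_congr e.toEquiv).trans card
  rw [hc] at hd
  by_cases h2 : p = 2
  · subst h2; exact Row.of_equiv e row_two
  by_cases h3 : p = 3
  · subst h3; exact Row.of_equiv e row_three
  refine Row.of_im (dlLe_one (a := 2) le_rfl ?_) him
  rw [hc]
  intro h4
  have hd' : p ∣ 2 ^ 18 * (3 ^ 13 * (5 ^ 2 * (7 * (11 * (13 * (17 * 23)))))) := by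
    rw [show 2 ^ 18 * (3 ^ 13 * (5 ^ 2 * (7 * (11 * (13 * (17 * 23)))))) = 4089470473293004800 by norm_num]
    exact hd
  have one : ∀ q : ℕ, q.Prime → p ∣ q → p = q := fun q hq h => (Nat.prime_dvd_prime_iff_eq hp hq).1 h
  have key : p = 5 ∨ p = 7 ∨ p = 11 ∨ p = 13 ∨ p = 17 ∨ p = 23 := by
    rcases hp.dvd_mul.1 hd' with h | h
    · exact absurd (one 2 Nat.prime_two (hp.dvd_of_dvd_pow h)) h2
    rcases hp.dvd_mul.1 h with h | h
    · exact absurd (one 3 Nat.prime_three (hp.dvd_of_dvd_pow h)) h3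
    rcases hp.dvd_mul.1 h with h | h
    · exact Or.inl (one 5 (by norm_num) (hp.dvd_of_dvd_pow h))
    rcases hp.dvd_mul.1 h with h | h
    · exact Or.inr (Or.inl (one 7 (by norm_num) h))
    rcases hp.dvd_mul.1 h with h | h
    · exact Or.inr (Or.inr (Or.inl (one 11 (by norm_num) h)))
    rcases hp.dvd_mul.1 h with h | h
    · exact Or.inr (Or.inr (Or.inr (Or.inl (one 13 (by norm_num) h))))
    rcases hp.dvd_mul.1 h with h | h
    · exact Or.inr (Or.inr (Or.inr (Or.inr (Or.inl (one 17 (by norm_num) h)))))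
    · exact Or.inr (Or.inr (Or.inr (Or.inr (Or.inr (one 23 (by norm_num) h)))))
  rcases key with rfl | rfl | rfl | rfl | rfl | rfl <;> norm_num at h4

end Cfsg.Agent.H153.Dl
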