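import Cfsg.Agent.H672.SC

/-!
# Structure constants and degrees divisible by `p`, nonvanishing version (helper153)

`exists_of_inverted` : an involution `t` inverts `g`, `|C(g)|` is odd and prime to `p` and `|G|_p` does not divide
`|C(t)|²`; then some irreducible character `χ` with `χ(g) ≠ 0` has degree divisible by `p`.
After helper672's `H672.SC`.
-/

set_option autoImplicit false

open Cfsg

namespace Cfsg.Agent.H153.Dl

open Cfsg.Agent.Characters.Core Cfsg.Agent.H672.SC

universe u

variable {G : Type u} [Group G]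

local notation "conj" => starRingEnd ℂ

theorem exists_coprime_mul_nz [Finite G] {p : ℕ} [hp : Fact p.Prime] (a b g : G)
    (h : ∀ χ : IrrCharacter G, (χ : G → ℂ) g ≠ 0 → ¬ p ∣ charDegree (χ : G → ℂ)) :
    ∃ m : ℕ, ¬ p ∣ m ∧ Nat.card G ∣ m * (npairs a b g *
      (Nat.card (Subgroup.centralizer ({a} : Set G)) *
        Nat.card (Subgroup.centralizer ({b} : Set G)))) := by
  classical
  have : Finite (IrrCharacter G) := finite_irr
  have : Fintype (IrrCharacter G) := Fintype.ofFinite _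
  have hdeg : ∀ χ : IrrCharacter G, (χ : G → ℂ) 1 = (charDegree (χ : G → ℂ) : ℂ) := fun χ =>
    Cfsg.Agent.Blocks.Basic.irr_one_eq_charDegree χ.2
  have hpos : ∀ χ : IrrCharacter G, charDegree (χ : G → ℂ) ≠ 0 := fun χ =>
    (Cfsg.Agent.Blocks.Basic.charDegree_pos χ.2).ne'
  set A : Finset (IrrCharacter G) := Finset.univ.filter fun χ : IrrCharacter G => (χ : G → ℂ) g ≠ 0 with hA
  refine ⟨∏ χ ∈ A, charDegree (χ : G → ℂ), ?_, ?_⟩
  · intro hd
    obtain ⟨χ, h1, hχ⟩ := (Prime.dvd_finsetProd_iff hp.out.prime _).1 hd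
    exact h χ (Finset.mem_filter.1 h1).2 hχ
  · set m := ∏ χ ∈ A, charDegree (χ : G → ℂ) with hm
    have hG : (Nat.card G : ℂ) ≠ 0 := by exact_mod_cast Nat.card_pos.ne'
    apply Cfsg.Agent.Characters.DegreeBounds.nat_dvd_of_isIntegral_div Nat.card_pos.ne'
    have h1 := Cfsg.Agent.Characters.ClassMul.card_class_mul a b g
    have ha : (Nat.card (Subgroup.centralizer ({a} : Set G)) : ℂ) *
        ((Subgroup.centralizer ({a} : Set G)).index : ℂ) = (Nat.card G : ℂ) := by
      exact_mod_cast Subgroup.card_mul_index _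
    have hb : (Nat.card (Subgroup.centralizer ({b} : Set G)) : ℂ) *
        ((Subgroup.centralizer ({b} : Set G)).index : ℂ) = (Nat.card G : ℂ) := by
      exact_mod_cast Subgroup.card_mul_index _
    set S : ℂ := ∑ χ : IrrCharacter G,
        (χ : G → ℂ) a * (χ : G → ℂ) b * conj ((χ : G → ℂ) g) / (χ : G → ℂ) 1 with hS
    have hmS : IsIntegral ℤ ((m : ℂ) * S) := by
      rw [hS, Finset.mul_sum]
      apply IsIntegral.sum
      intro χ _
      by_cases hχg : (χ : G → ℂ) g = 0
      · rw [hχg, map_zero, mul_zero, zero_div, mul_zero]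
        exact isIntegral_zero
      have hχA : χ ∈ A := Finset.mem_filter.2 ⟨Finset.mem_univ _, hχg⟩
      have hsplit : (m : ℂ) = (charDegree (χ : G → ℂ) : ℂ) *
          ∏ ψ ∈ A.erase χ, (charDegree (ψ : G → ℂ) : ℂ) := by
        rw [hm]
        push_cast
        rw [Finset.mul_prod_erase A (fun ψ : IrrCharacter G => (charDegree (ψ : G → ℂ) : ℂ)) hχA]
      have hne : (charDegree (χ : G → ℂ) : ℂ) ≠ 0 := by exact_mod_cast hpos χ
      have : (m : ℂ) * ((χ : G → ℂ) a * (χ : G → ℂ) b * conj ((χ : G → ℂ) g) / (χ : G → ℂ) 1) =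
          (∏ ψ ∈ A.erase χ, (charDegree (ψ : G → ℂ) : ℂ)) *
          ((χ : G → ℂ) a * (χ : G → ℂ) b * conj ((χ : G → ℂ) g)) := by
        rw [hdeg χ, hsplit]
        field_simp
      rw [this]
      have hχ : IsCharacter G (χ : G → ℂ) := by
        obtain ⟨n, ρ, -, h3⟩ := χ.2
        exact ⟨n, ρ, h3⟩
      refine IsIntegral.mul ?_ (((Characters.GaloisBasic.isIntegral_apply hχ a).mul
        (Characters.GaloisBasic.isIntegral_apply hχ b)).mul ?_)
      · apply IsIntegral.prod
        intro ψ _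
        have h3 : IsIntegral ℤ (algebraMap ℤ ℂ (charDegree (ψ : G → ℂ) : ℤ)) :=
          isIntegral_algebraMap
        simpa using h3
      · exact (Characters.GaloisBasic.isIntegral_apply hχ g).map
          ((Complex.conjAe : ℂ →ₐ[ℝ] ℂ).restrictScalars ℤ)
    have key : ((m * (npairs a b g * (Nat.card (Subgroup.centralizer ({a} : Set G)) *
        Nat.card (Subgroup.centralizer ({b} : Set G)))) : ℕ) : ℂ) / (Nat.card G : ℂ) =
        (m : ℂ) * S := by
      have h2 : (npairs a b g : ℂ) = ((Subgroup.centralizer ({a} : Set G)).index : ℂ) *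
        ((Subgroup.centralizer ({b} : Set G)).index : ℂ) / (Nat.card G : ℂ) * S := h1
      push_cast
      rw [h2]
      rw [← ha]
      rw [← ha] at hG
      have hb' := hb
      rw [← ha] at hb'
      have hca : (Nat.card (Subgroup.centralizer ({a} : Set G)) : ℂ) ≠ 0 := left_ne_zero_of_mul hG
      have hia : ((Subgroup.centralizer ({a} : Set G)).index : ℂ) ≠ 0 := right_ne_zero_of_mul hG
      field_simp
      linear_combination (m : ℂ) * S * hb'
    rw [key]
    exact hmS

/-- **Involution criterion, nonvanishing version.** -/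
theorem exists_of_inverted [Finite G] {p : ℕ} [hp : Fact p.Prime] {t g : G} (ht : t * t = 1)
    (hg : t * g * t⁻¹ = g⁻¹)
    (hodd : Odd (Nat.card (Subgroup.centralizer ({g} : Set G))))
    (hpg : ¬ p ∣ Nat.card (Subgroup.centralizer ({g} : Set G))) {k : ℕ}
    (hk : p ^ k ∣ Nat.card G)
    (h : ¬ p ^ k ∣ Nat.card (Subgroup.centralizer ({t} : Set G)) ^ 2) :
    ∃ χ : IrrCharacter G, (χ : G → ℂ) g ≠ 0 ∧ p ∣ charDegree (χ : G → ℂ) := by
  by_contra hcon
  push Not at hcon
  obtain ⟨m, hm, hd⟩ := exists_coprime_mul_nz (p := p) t t g hcon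
  have h0 : (p ^ k).Coprime m := Nat.Coprime.pow_left _ ((Nat.Prime.coprime_iff_not_dvd hp.out).2 hm)
  have hd' := h0.dvd_of_dvd_mul_left (hk.trans hd)
  apply h
  have h1 : ¬ p ∣ npairs t t g := fun h2 => hpg (h2.trans (npairs_dvd ht hg hodd))
  have h2 : (p ^ k).Coprime (npairs t t g) :=
    Nat.Coprime.pow_left _ ((Nat.Prime.coprime_iff_not_dvd hp.out).2 h1)
  rw [sq]
  exact h2.dvd_of_dvd_mul_left hd'

end Cfsg.Agent.H153.Dl
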