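import Cfsg.Agent.H153.Dl.A24.D
import Cfsg.Agent.H153.Dl.B24.D
import Cfsg.Agent.H153.Dl.K24
import Cfsg.Agent.H153.Dl.Down
import Cfsg.Agent.H153.Dl.SCnz
import Cfsg.Agent.H680.Dl.Hall
import Cfsg.Agent.H30.IMFi24
import Cfsg.Agent.H187.FiTwoZ.FiFour
import Cfsg.Agent.H843.N17
import Cfsg.Agent.S2081

/-!
# The row of `Fi24'` (S4769; helper153, task DL-SPOR-5)
-/

set_option autoImplicit false
set_option maxRecDepth 100000
set_option linter.constructorNameAsVariable false

namespace Cfsg.Agent.H153.Dl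

open Cfsg Cfsg.Spor Cfsg.Agent.H246.Dl Cfsg.Agent.H454.DlCrit Cfsg.Agent.H680.Dl Subgroup
open Cfsg.Agent.R08.FiTwentyFour (index_commutator finite_Fi24 card_commutator)

namespace Fi24Row

local notation "L" => Cfsg.Agent.R08.FiTwentyFour.L

theorem card : Nat.card Spor.Fi24' = 1255205709190661721292800 := card_commutator

theorem fin' : Finite Spor.Fi24' := Nat.finite_of_card_ne_zero (by rw [card]; norm_num)

theorem out : Nat.card (OutQ Spor.Fi24') ≤ 2 := (S2081.result).le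

/-- The centralizer in `Fi24'` of an element commuting with a transposition. -/
theorem card_cent_le {x d : Fi24} (hx : x ∈ commutator Fi24) (hd : d ∈ L) (hxd : d * x = x * d) :
    Nat.card (centralizer ({(⟨x, hx⟩ : Spor.Fi24')} : Set Spor.Fi24')) * 2 ≤ Nat.card (centralizer ({x} : Set Fi24)) := by
  have hfin : Finite Fi24 := finite_Fi24
  have h1 := Cfsg.Agent.H843.Fi24N.half (H := centralizer ({x} : Set Fi24))
    (mem_centralizer_singleton_iff.2 hxd) hd
  rw [← h1]
  refine Nat.mul_le_mul_right 2 ?_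
  let f : ↥(centralizer ({(⟨x, hx⟩ : Spor.Fi24')} : Set Spor.Fi24')) →
      ↥(commutator Fi24 ⊓ centralizer ({x} : Set Fi24) : Subgroup Fi24) := fun y =>
    ⟨((y : Spor.Fi24') : Fi24), mem_inf.2 ⟨(y : Spor.Fi24').2, mem_centralizer_singleton_iff.2
      (congrArg Subtype.val (mem_centralizer_singleton_iff.1 y.2))⟩⟩
  refine Nat.card_le_card_of_injective f ?_
  intro y z h
  have h1 : ((y : Spor.Fi24') : Fi24) = ((z : Spor.Fi24') : Fi24) :=
    congrArg (fun q : ↥(commutator Fi24 ⊓ centralizer ({x} : Set Fi24) : Subgroup Fi24) => (q : Fi24)) h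
  exact Subtype.ext (Subtype.ext h1)

/-! ### The prime 2 -/

theorem a24_pow : R24.chkEq (PR.rep 16 A24.xw) [] = true := by decide +kernel

theorem a24_mem : A24.D.x ∈ commutator Fi24 := (K24.word_mem' A24.xw).2 (by decide)

theorem a24_y : R24.word A24.y0a ∈ L := by
  have h1 := Cfsg.Agent.R08.FiTwentyFour.conj (Cfsg.Agent.R08.FiTwentyFour.gen_mem_L .c)
    (R24.word [.d, .h, .f, .e, .d])
  have h2 : R24.word A24.y0a = R24.word [.d, .h, .f, .e, .d] * Fischer.Fi24Class.gen .c *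
      (R24.word [.d, .h, .f, .e, .d])⁻¹ := by
    rw [← R24.word_reverse]
    have h3 : Fischer.Fi24Class.gen .c = R24.word [.c] := (word_one .c).symm
    rw [h3, ← R24.word_append, ← R24.word_append]
    rfl
  rw [h2]
  exact h1

/-- **The row of `Fi24'`, `p = 2`.** -/
theorem row_two : Row 2 Spor.Fi24' := by
  have := fin'
  have hf : Fact (Nat.Prime 2) := ⟨Nat.prime_two⟩
  have h16 : A24.D.x ^ 2 ^ 4 = 1 :=
    (R24.word_rep 16 A24.xw).symm.trans ((R24.word_eq_of a24_pow).trans R24.word_nil)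
  have h16' : (⟨A24.D.x, a24_mem⟩ : Spor.Fi24') ^ 2 ^ 4 = 1 := Subtype.ext h16
  have hj : ∃ j : ℕ, orderOf (⟨A24.D.x, a24_mem⟩ : Spor.Fi24') = 2 ^ j := by
    obtain ⟨k, -, hk⟩ := (Nat.dvd_prime_pow Nat.prime_two).1 (orderOf_dvd_of_pow_eq_one h16')
    exact ⟨k, hk⟩
  have h1 := card_cent_le a24_mem a24_y (R24.comm_of A24.comm_y0a)
  have h2 : Nat.card (centralizer ({A24.D.x} : Set Fi24)) ≤ 64 := A24.card_le
  refine Row.of_le (d := 4) (m := 4) ((dlLe_of_card' (a := 21) ?_).2.1 (by norm_num))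
    (Many.of_count_le hj out K24.le_k' ?_) le_rfl
  · rw [card]; norm_num
  · omega

/-! ### The prime 3 -/

theorem b24_pow : R24.chkEq (PR.rep 27 B24.xw) [] = true := by decide +kernel

/-- **The row of `Fi24'`, `p = 3`.** -/
theorem row_three : Row 3 Spor.Fi24' := by
  have := fin'
  have hfin : Finite Fi24 := finite_Fi24
  have hf : Fact (Nat.Prime 3) := ⟨Nat.prime_three⟩
  have h27 : B24.D.x ^ 3 ^ 3 = 1 :=
    (R24.word_rep 27 B24.xw).symm.trans ((R24.word_eq_of b24_pow).trans R24.word_nil)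
  have hj : ∃ j : ℕ, orderOf B24.D.x = 3 ^ j := by
    obtain ⟨k, -, hk⟩ := (Nat.dvd_prime_pow Nat.prime_three).1 (orderOf_dvd_of_pow_eq_one h27)
    exact ⟨k, hk⟩
  have hb : Nat.card (centralizer ({B24.D.x} : Set Fi24)) ≤ 81 := B24.card_le
  refine Row.of_le (d := 4) (m := 4) ((dlLe_of_card' (a := 16) ?_).2.1 (by norm_num))
    (many_down (commutator Fi24) Nat.prime_three ?_ hj out hb K24.le_k ?_) le_rfl
  · rw [card]; norm_num
  · rw [index_commutator]; norm_num
  · rw [index_commutator]; norm_num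

/-! ### The prime 7 -/

theorem conj_iter {K : Type*} [Group K] {w x : K} {a : ℕ} (h : w * x * w⁻¹ = x ^ a) (n : ℕ) :
    w ^ n * x * (w ^ n)⁻¹ = x ^ a ^ n := by
  induction n with
  | zero => simp
  | succ n ih =>
    calc w ^ (n + 1) * x * (w ^ (n + 1))⁻¹ = w * (w ^ n * x * (w ^ n)⁻¹) * w⁻¹ := by
          rw [pow_succ', mul_inv_rev]; group
      _ = (w * x * w⁻¹) ^ a ^ n := by rw [ih, conj_pow]
      _ = x ^ a ^ (n + 1) := by rw [h, ← pow_mul, pow_succ']

/-- an element inverting an element of odd prime order which is self-centralizing is an involution -/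
theorem sq_of_inv {K : Type*} [Group K] [Finite K] {x t : K} {n : ℕ} (hn : n.Prime) (h2 : n ≠ 2)
    (hx : orderOf x = n) (hC : Nat.card (centralizer ({x} : Set K)) = n) (hinv : t * x * t⁻¹ = x⁻¹) : t * t = 1 := by
  have hcent : zpowers x = centralizer ({x} : Set K) := by
    apply eq_of_le_of_card_ge
    · rw [zpowers_le, mem_centralizer_singleton_iff]
    · rw [hC, Nat.card_zpowers, hx]
  have h4 : t * t ∈ zpowers x := by
    rw [hcent, mem_centralizer_singleton_iff]
    have h6 : (t * t) * x * (t * t)⁻¹ = x := by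
      calc (t * t) * x * (t * t)⁻¹ = t * (t * x * t⁻¹) * t⁻¹ := by group
        _ = t * x⁻¹ * t⁻¹ := by rw [hinv]
        _ = (t * x * t⁻¹)⁻¹ := by group
        _ = x := by rw [hinv, inv_inv]
    calc t * t * x = ((t * t) * x * (t * t)⁻¹) * (t * t) := by group
      _ = x * (t * t) := by rw [h6]
  obtain ⟨k, hk⟩ := mem_zpowers_iff.1 h4
  have h7 : t * (x ^ k) * t⁻¹ = x ^ k := by rw [hk]; group
  rw [← conj_zpow, hinv, inv_zpow] at h7
  have h8 : x ^ (2 * k) = 1 := by
    calc x ^ (2 * k) = x ^ k * x ^ k := by rw [two_mul, zpow_add]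
      _ = (x ^ k)⁻¹ * x ^ k := by rw [h7]
      _ = 1 := inv_mul_cancel _
  have h10 : (n : ℤ) ∣ 2 * k := by
    rw [← hx]; exact orderOf_dvd_iff_zpow_eq_one.2 h8
  have h11 : (n : ℤ) ∣ k := by
    have h12 : IsCoprime (n : ℤ) 2 := by
      have h13 : Nat.Coprime n 2 := (Nat.coprime_primes hn Nat.prime_two).2 h2
      exact_mod_cast Nat.isCoprime_iff_coprime.2 h13
    exact h12.dvd_of_dvd_mul_left h10
  rw [← hk]
  rw [← hx] at h11
  exact orderOf_dvd_iff_zpow_eq_one.1 h11

open Cfsg.Agent.CTwoTab.FiTF Cfsg.Agent.H713.Spor.FiTF Cfsg.Agent.H30.FourTrans in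
/-- an involution inverting an element of odd order `n`, `n ∤ 60`, is conjugate to `z0` -/
theorem conj_z0 {x t : Spor.Fi24'} {n : ℕ} (hx : orderOf x = n) (hn : Odd n) (h60 : ¬ n ∣ 60) (ht : t * t = 1)
    (ht1 : t ≠ 1) (hinv : t * x * t⁻¹ = x⁻¹) : ∃ g : Spor.Fi24', t = g * z0 * g⁻¹ := by
  have ho : orderOf t = 2 := orderOf_eq_prime (by rw [pow_two, ht]) ht1
  rcases classes t ho with ⟨a, b, P, hab⟩ | h
  · exfalso
    have hxn : x ^ n = 1 := by rw [← hx]; exact pow_orderOf_eq_one x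
    obtain ⟨j, hj⟩ := Cfsg.Agent.H672.SC.exists_two_mul hn
    have hxt : x * t = x ^ j * t * (x ^ j)⁻¹ := Cfsg.Agent.H672.SC.mul_eq_conj hinv hxn hj
    have h1 : ((x : Spor.Fi24') : Fi24) * (a * b) = ((x ^ j : Spor.Fi24') : Fi24) * (a * b) *
        ((x ^ j : Spor.Fi24') : Fi24)⁻¹ := by
      have h2 := congrArg Subtype.val hxt
      push_cast at h2 ⊢
      rwa [hab] at h2
    set y : Fi24 := ((x ^ j : Spor.Fi24') : Fi24) with hy
    have cab : a * b = b * a := P.ab
    have aa : a * a = 1 := Cfsg.Agent.R08.FiTwentyFour.sq P.ha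
    have bb : b * b = 1 := Cfsg.Agent.R08.FiTwentyFour.sq P.hb
    have h3 := Cfsg.Agent.H30.IMFi24.tr.pow_sixty (Cfsg.Agent.R08.FiTwentyFour.conj P.ha y)
      (Cfsg.Agent.R08.FiTwentyFour.conj P.hb y) P.ha P.hb
      (by
        calc y * a * y⁻¹ * (y * b * y⁻¹) = y * (a * b) * y⁻¹ := by group
          _ = y * (b * a) * y⁻¹ := by rw [cab]
          _ = y * b * y⁻¹ * (y * a * y⁻¹) := by group) cab
    have h4 : y * a * y⁻¹ * (y * b * y⁻¹) * (a * b) = ((x : Spor.Fi24') : Fi24) := by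
      calc y * a * y⁻¹ * (y * b * y⁻¹) * (a * b) = (y * (a * b) * y⁻¹) * (a * b) := by group
        _ = ((x : Spor.Fi24') : Fi24) * (a * (b * a) * b) := by rw [← h1]; group
        _ = ((x : Spor.Fi24') : Fi24) * ((a * a) * (b * b)) := by rw [← cab]; group
        _ = _ := by rw [aa, bb, one_mul, mul_one]
    rw [h4] at h3
    have h5 : x ^ 60 = 1 := Subtype.ext (by push_cast; exact h3)
    have h6 := orderOf_dvd_of_pow_eq_one h5
    rw [hx] at h6
    exact h60 h6
  · exact h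

open Cfsg.Agent.CTwoTab.FiTF in
/-- the centralizer of a conjugate of `z0` -/
theorem card_z0_dvd {t : Spor.Fi24'} (h : ∃ g : Spor.Fi24', t = g * z0 * g⁻¹) :
    Nat.card (centralizer ({t} : Set Spor.Fi24')) ∣ 321052999680 := by
  have := fin'
  obtain ⟨g, hg⟩ := h
  rw [hg, Cfsg.Agent.Blocks.SylowIn.card_centralizer_of_isConj (isConj_iff.2 ⟨g, rfl⟩ : IsConj z0 _)]
  rw [← Cfsg.Agent.KFacts.FiTF.Order.card]
  let f : ↥(centralizer ({z0} : Set Spor.Fi24')) →* ↥(centralizer ({KFacts.FiTF.Defs.z} : Set Fi24)) :=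
    ((commutator Fi24).subtype.comp (centralizer ({z0} : Set Spor.Fi24')).subtype).codRestrict _ (by
      intro x
      rw [mem_centralizer_singleton_iff]
      exact congrArg Subtype.val (mem_centralizer_singleton_iff.1 x.2))
  refine Subgroup.card_dvd_of_injective f ?_
  intro x y h
  have h1 := (Subtype.mk.injEq _ _ _ _).mp h
  exact Subtype.ext (Subtype.ext h1)

/-- an element of order 17 of `Fi24'` -/
theorem exists_x17 : ∃ x t : Spor.Fi24', orderOf x = 17 ∧ Nat.card (centralizer ({x} : Set Spor.Fi24')) = 17 ∧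
    t * x * t⁻¹ = x⁻¹ := by
  have hfin : Finite Fi24 := finite_Fi24
  have hfin' : Finite Spor.Fi24' := fin'
  set X : Fi24 := Cfsg.Agent.H843.D17.D.x with hX
  set w : Fi24 := Cfsg.Agent.Fischer.Fi24Rep.word Cfsg.Agent.H843.D17.w3 with hw
  have ho : orderOf X = 17 := Cfsg.Agent.H843.D17.order
  have h17 : X ^ 17 = 1 := by rw [← ho]; exact pow_orderOf_eq_one X
  have hXw : w * X * w⁻¹ = X ^ 3 := Cfsg.Agent.H843.Fi24N.conj_of Cfsg.Agent.H843.D17.h3
  have hC : Nat.card (centralizer (zpowers X : Set Fi24)) = 34 := Cfsg.Agent.H843.D17.main.2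
  have hXK : X ∈ commutator Fi24 := Cfsg.Agent.H843.Fi24N.mem_commutator (by rw [ho]; decide)
  have hwK : w ^ 8 ∈ commutator Fi24 := by
    have h2 : (w ^ 4) ^ (commutator Fi24).index ∈ commutator Fi24 := Subgroup.pow_index_mem _ _
    rwa [index_commutator, ← pow_mul] at h2
  have hinv : w ^ 8 * X * (w ^ 8)⁻¹ = X⁻¹ := by
    rw [conj_iter hXw 8]
    calc X ^ 3 ^ 8 = (X ^ 17) ^ 386 * X⁻¹ := by group
      _ = X⁻¹ := by rw [h17]; group
  refine ⟨⟨X, hXK⟩, ⟨w ^ 8, hwK⟩, ?_, ?_, Subtype.ext hinv⟩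
  · rw [Subgroup.orderOf_mk, ho]
  · have hl : Fischer.Fi24Rep.gen .l ∈ L ∩ (centralizer (zpowers X : Set Fi24) : Set Fi24) := by
      rw [Cfsg.Agent.H843.D17.inter]; rfl
    have h34 := Cfsg.Agent.H843.Fi24N.half hl.2 hl.1
    rw [hC] at h34
    have hI : Nat.card ↥(commutator Fi24 ⊓ centralizer (zpowers X : Set Fi24)) = 17 := by omega
    let f : ↥(centralizer ({(⟨X, hXK⟩ : Spor.Fi24')} : Set Spor.Fi24')) →*
        ↥(commutator Fi24 ⊓ centralizer (zpowers X : Set Fi24)) :=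
      ((commutator Fi24).subtype.comp (centralizer ({(⟨X, hXK⟩ : Spor.Fi24')} : Set Spor.Fi24')).subtype).codRestrict _ (by
        intro y
        refine mem_inf.2 ⟨(y : Spor.Fi24').2, ?_⟩
        have h1 := mem_centralizer_singleton_iff.1 y.2
        have h2 : ((y : Spor.Fi24') : Fi24) * X = X * ((y : Spor.Fi24') : Fi24) := congrArg Subtype.val h1
        exact Cfsg.Agent.H843.Cyc.mem_centralizer_zpowers.2 h2)
    have hf : Function.Injective f := by
      intro y z h
      have h1 := (Subtype.mk.injEq _ _ _ _).mp h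
      exact Subtype.ext (Subtype.ext h1)
    have h1 := Subgroup.card_dvd_of_injective f hf
    rw [hI] at h1
    rcases (Nat.dvd_prime (by norm_num : Nat.Prime 17)).1 h1 with h2 | h2
    · exfalso
      have h3 : (⟨X, hXK⟩ : Spor.Fi24') ∈ centralizer ({(⟨X, hXK⟩ : Spor.Fi24')} : Set Spor.Fi24') := by
        rw [mem_centralizer_singleton_iff]
      have h4 : orderOf (⟨_, h3⟩ : ↥(centralizer ({(⟨X, hXK⟩ : Spor.Fi24')} : Set Spor.Fi24'))) ∣ 1 := by
        rw [← h2]; exact orderOf_dvd_natCard _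
      rw [Subgroup.orderOf_mk, Subgroup.orderOf_mk, ho] at h4
      norm_num at h4
    · exact h2

/-- a character of degree divisible by 7 and not by 17 -/
theorem exists_star : ∃ χ : IrrCharacter Spor.Fi24', 7 ∣ charDegree (χ : Spor.Fi24' → ℂ) ∧
    charDegree (χ : Spor.Fi24' → ℂ) ≠ 57477 := by
  have := fin'
  have hf : Fact (Nat.Prime 7) := ⟨by norm_num⟩
  obtain ⟨x, t, hx, hC, hinv⟩ := exists_x17
  have htt : t * t = 1 := sq_of_inv (by norm_num) (by norm_num) hx hC hinv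
  have ht1 : t ≠ 1 := by
    rintro rfl
    rw [one_mul, inv_one, mul_one] at hinv
    have h2 : x ^ 2 = 1 := by
      rw [pow_two]
      nth_rewrite 2 [hinv]
      exact mul_inv_cancel x
    have h3 := orderOf_dvd_of_pow_eq_one h2
    rw [hx] at h3
    norm_num at h3
  have hz := card_z0_dvd (conj_z0 hx (by decide) (by norm_num) htt ht1 hinv)
  obtain ⟨χ, h1, h2⟩ := exists_of_inverted (p := 7) htt hinv (by rw [hC]; decide) (by rw [hC]; norm_num) (k := 3)
    (by rw [card]; norm_num) (by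
      intro hd
      have h3 : 7 ^ 3 ∣ 321052999680 ^ 2 := hd.trans (pow_dvd_pow_of_dvd hz 2)
      norm_num at h3)
  refine ⟨χ, h2, fun h3 => h1 ?_⟩
  have h4 : H187.FiTwoZ.Sing (χ : Spor.Fi24' → ℂ) x := H187.FiTwoZ.sing_of (p := 17) (by norm_num) (by rw [hx]) h3 card
    (a := 3381) (b := 73835629952391865958400) (by norm_num) (by norm_num) (by norm_num) (by norm_num)
  exact h4.zero 1

open H187.FiTwoZ Cfsg.Agent.Fischer.Abstract Cfsg.Agent.LThreeM.SrgFix Cfsg.Agent.R08.FiTwentyFour in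
/-- a character of degree 57477 -/
theorem exists_rank3 : ∃ χ : IrrCharacter Spor.Fi24', charDegree (χ : Spor.Fi24' → ℂ) = 57477 := by
  classical
  have hfin : Finite Fi24 := finite_Fi24
  obtain ⟨R, -, -, hR⟩ := facts.exists_rank3
  have hcX := Cfsg.Agent.H711.FiEven.card_X R hR
  have hfX : Finite (Fi24 ⧸ Cfsg.Agent.Fischer.Fi24RepOrb.H) := Nat.finite_of_card_ne_zero (by rw [hcX]; norm_num)
  have hsame : Same (commutator Fi24) (Fi24 ⧸ Cfsg.Agent.Fischer.Fi24RepOrb.H) :=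
    same_of R _ index_commutator (fun x => odd (by rw [← hR]; exact ⟨x, rfl⟩)) (fi24_common R hR)
  obtain ⟨χ₁, χ₂, h1, -⟩ := chars R (commutator Fi24) hsame (k := 31671) (l := 275264) (m := 3240)
    (Cfsg.Agent.H711.FiEven.nb_card R hR) (Cfsg.Agent.H711.FiEven.cb_card R hR) hcX
    (by norm_num) (by norm_num) (r := 351) (s := -81) (by norm_num) (by norm_num) (by norm_num)
    (f := 57477) (g := 249458) (by norm_num) (by norm_num)
  exact ⟨χ₁, h1⟩

/-- **The row of `Fi24'`, `p = 7`.** -/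
theorem row_seven : Row 7 Spor.Fi24' := by
  have := fin'
  have hf : Fact (Nat.Prime 7) := ⟨by norm_num⟩
  obtain ⟨θ, hθ⟩ := exists_rank3
  obtain ⟨χ, hχ, hne⟩ := exists_star
  refine Row.of_le (d := 2) (m := 2) (dlLe_two (a := 3) (by norm_num) ?_)
    (Many.of_degrees ![θ, χ] ?_ ?_) le_rfl
  · rw [card]; norm_num
  · intro i
    fin_cases i
    · show 7 ∣ charDegree (θ : Spor.Fi24' → ℂ)
      rw [hθ]; norm_num
    · exact hχ
  · intro i j hij
    fin_cases i <;> fin_cases j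
    · rfl
    · exact absurd ((show charDegree (θ : Spor.Fi24' → ℂ) = charDegree (χ : Spor.Fi24' → ℂ) from hij).symm.trans hθ) hne
    · exact absurd ((show charDegree (χ : Spor.Fi24' → ℂ) = charDegree (θ : Spor.Fi24' → ℂ) from hij).trans hθ) hne
    · rfl

end Fi24Row

open Fi24Row in
/-- **The row of `Fi24'`** (S4769). -/
theorem row_fi24 {S : Type*} [Group S] [Finite S] (h : Spor.IsoFi24' S) {p : ℕ} (hp : p.Prime) (hd : p ∣ Nat.card S) :
    Row p S := by
  have hf : Fact p.Prime := ⟨hp⟩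
  have him : H33.IM p S := H30.IMFi24.im_fi24 h hd
  obtain ⟨e⟩ := h
  have hc : Nat.card S = 1255205709190661721292800 := (Nat.card_congr e.toEquiv).trans card
  rw [hc] at hd
  by_cases h2 : p = 2
  · subst h2; exact Row.of_equiv e row_two
  by_cases h3 : p = 3
  · subst h3; exact Row.of_equiv e row_three
  by_cases h7 : p = 7
  · subst h7; exact Row.of_equiv e row_seven
  refine Row.of_im (dlLe_one (a := 2) le_rfl ?_) him
  rw [hc]
  intro h4
  have hd' : p ∣ 2 ^ 21 * (3 ^ 16 * (5 ^ 2 * (7 ^ 3 * (11 * (13 * (17 * (23 * 29))))))) := by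
    rw [show 2 ^ 21 * (3 ^ 16 * (5 ^ 2 * (7 ^ 3 * (11 * (13 * (17 * (23 * 29))))))) = 1255205709190661721292800 by
      norm_num]
    exact hd
  have one : ∀ q : ℕ, q.Prime → p ∣ q → p = q := fun q hq h => (Nat.prime_dvd_prime_iff_eq hp hq).1 h
  have key : p = 5 ∨ p = 11 ∨ p = 13 ∨ p = 17 ∨ p = 23 ∨ p = 29 := by
    rcases hp.dvd_mul.1 hd' with h | h
    · exact absurd (one 2 Nat.prime_two (hp.dvd_of_dvd_pow h)) h2
    rcases hp.dvd_mul.1 h with h | h
    · exact absurd (one 3 Nat.prime_three (hp.dvd_of_dvd_pow h)) h3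
    rcases hp.dvd_mul.1 h with h | h
    · exact Or.inl (one 5 (by norm_num) (hp.dvd_of_dvd_pow h))
    rcases hp.dvd_mul.1 h with h | h
    · exact absurd (one 7 (by norm_num) (hp.dvd_of_dvd_pow h)) h7
    rcases hp.dvd_mul.1 h with h | h
    · exact Or.inr (Or.inl (one 11 (by norm_num) h))
    rcases hp.dvd_mul.1 h with h | h
    · exact Or.inr (Or.inr (Or.inl (one 13 (by norm_num) h)))
    rcases hp.dvd_mul.1 h with h | h
    · exact Or.inr (Or.inr (Or.inr (Or.inl (one 17 (by norm_num) h))))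
    rcases hp.dvd_mul.1 h with h | h
    · exact Or.inr (Or.inr (Or.inr (Or.inr (Or.inl (one 23 (by norm_num) h)))))
    · exact Or.inr (Or.inr (Or.inr (Or.inr (Or.inr (one 29 (by norm_num) h)))))
  rcases key with rfl | rfl | rfl | rfl | rfl | rfl <;> norm_num at h4

end Cfsg.Agent.H153.Dl
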